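import Cfsg.Agent.Lib.PermGroup.PrimeDegree
import Cfsg.Agent.S0675
import Mathlib.GroupTheory.GroupAction.MultipleTransitivity
import Mathlib.GroupTheory.PGroup
import Mathlib.Data.Finset.Image
import Mathlib.Tactic

/-!
Elementary lemmas for doubly transitive groups of degree `p² + 1`: `p`-groups on small invariant
sets, and the two kinds of point stabilisers on an invariant set of prime size.
-/

set_option autoImplicit false

namespace CfsgLib.SquareDegree

open MulAction
open scoped Classical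

variable {G X : Type*} [Group G] [MulAction G X]

/-- A `p`-group fixes pointwise an invariant set with fewer than `p` points. -/
theorem fixes_small [Finite G] {p : ℕ} [Fact p.Prime] {Q : Subgroup G} (hQ : IsPGroup p Q)
    (S : Finset X) (hS : ∀ g ∈ Q, ∀ x ∈ S, g • x ∈ S) (hc : S.card < p) :
    ∀ g ∈ Q, ∀ x ∈ S, g • x = x := by
  intro g hg x hx
  have hsub : orbit Q x ⊆ (S : Set X) := by
    rintro _ ⟨q, rfl⟩
    exact hS q q.2 x hx
  have hfin : (orbit Q x).Finite := S.finite_toSet.subset hsub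
  have := hfin.to_subtype
  obtain ⟨n, hn⟩ := hQ.card_orbit x
  have hle : Nat.card (orbit Q x) ≤ S.card := by
    rw [Nat.card_coe_set_eq, ← Set.ncard_coe_finset]
    exact Set.ncard_le_ncard hsub S.finite_toSet
  rw [hn] at hle
  have h0 : n = 0 := by
    by_contra h
    have := Nat.le_self_pow h p
    omega
  rw [h0, pow_zero] at hn
  have h1 : (orbit Q x).Subsingleton := by
    rw [← Set.subsingleton_coe]
    exact (Nat.card_eq_one_iff_unique.mp hn).1
  exact h1 ⟨⟨g, hg⟩, rfl⟩ (mem_orbit_self x)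

/-- On an invariant set of prime size a point stabiliser is transitive on the other points, or
is faithful on any further point and commutative. -/
theorem prime_dichotomy {p : ℕ} [Fact p.Prime] (H : Subgroup G) (S : Finset X)
    (hS : ∀ g ∈ H, ∀ x ∈ S, g • x ∈ S) (hc : S.card = p)
    (htr : ∀ x ∈ S, ∀ y ∈ S, ∃ g ∈ H, g • x = y) {d : X} (hd : d ∈ S) :
    (∀ x ∈ S, ∀ y ∈ S, x ≠ d → y ≠ d → ∃ g ∈ H, g • d = d ∧ g • x = y) ∨
      ((∀ g ∈ H, g • d = d → ∀ x ∈ S, x ≠ d → g • x = x → ∀ y ∈ S, g • y = y) ∧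
        ∀ g ∈ H, g • d = d → ∀ g' ∈ H, g' • d = d → ∀ x ∈ S, (g * g') • x = (g' * g) • x) := by
  let α := {x : X // x ∈ S}
  letI : MulAction H α :=
    { smul := fun g x => ⟨(g : G) • (x : X), hS g g.2 x x.2⟩
      one_smul := fun x => Subtype.ext (one_smul G (x : X))
      mul_smul := fun g h x => Subtype.ext (mul_smul (g : G) (h : G) (x : X)) }
  set φ : H →* Equiv.Perm α := MulAction.toPermHom H α
  have happ : ∀ (g : G) (hg : g ∈ H) (x : α),
      ((φ.rangeRestrict ⟨g, hg⟩ : φ.range) • x : α) = ⟨g • (x : X), hS g hg x x.2⟩ := fun g hg x => rfl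
  haveI : IsPretransitive φ.range α := ⟨fun x y => by
    obtain ⟨g, hg, hgxy⟩ := htr x x.2 y y.2
    exact ⟨φ.rangeRestrict ⟨g, hg⟩, (happ g hg x).trans (Subtype.ext hgxy)⟩⟩
  have hα : Fintype.card α = p := by rw [Fintype.card_coe, hc]
  rcases Cfsg.Agent.S0675.result (hα.symm ▸ Fact.out) φ.range with hsol | h2
  · right
    obtain ⟨e, -, haff⟩ := CfsgLib.PermGroup.affine_of_solvable hα φ.range hsol
    have hval : ∀ (g : G) (hg : g ∈ H), g • d = d → ∃ k : ZMod p, ∀ (x : X) (hx : x ∈ S),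
        e.symm ⟨g • x, hS g hg x hx⟩ - e.symm ⟨d, hd⟩ = k * (e.symm ⟨x, hx⟩ - e.symm ⟨d, hd⟩) := by
      intro g hg hgd
      obtain ⟨k, v, hkv⟩ := haff _ (φ.mem_range.mpr ⟨⟨g, hg⟩, rfl⟩)
      refine ⟨k, fun x hx => ?_⟩
      have key : ∀ (x : X) (hx : x ∈ S), e.symm ⟨g • x, hS g hg x hx⟩ = k * e.symm ⟨x, hx⟩ + v := by
        intro x hx
        rw [← e.symm_apply_apply (k * e.symm ⟨x, hx⟩ + v), ← hkv, e.apply_symm_apply]
        rfl
      have hd' := key d hd
      simp only [hgd] at hd'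
      rw [key x hx]
      linear_combination (norm := ring_nf) -hd'
    refine ⟨fun g hg hgd x hx hxd hgx y hy => ?_, fun g hg hgd g' hg' hgd' x hx => ?_⟩
    · obtain ⟨k, hk⟩ := hval g hg hgd
      have h1 := hk x hx
      simp only [hgx] at h1
      have hk1 : k = 1 := by
        refine mul_right_cancel₀ ?_ (h1.symm.trans (one_mul _).symm)
        rw [sub_ne_zero]
        exact fun h => hxd (congrArg Subtype.val (e.symm.injective h))
      have h2 := hk y hy
      rw [hk1, one_mul] at h2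
      exact congrArg Subtype.val (e.symm.injective (sub_left_injective h2))
    · obtain ⟨k, hk⟩ := hval g hg hgd
      obtain ⟨k', hk'⟩ := hval g' hg' hgd'
      have h1 := hk (g' • x) (hS g' hg' x hx)
      rw [hk' x hx] at h1
      have h2 := hk' (g • x) (hS g hg x hx)
      rw [hk x hx, ← mul_assoc, mul_comm k' k, mul_assoc, ← h1] at h2
      have h3 := congrArg Subtype.val (e.symm.injective (sub_left_injective h2))
      rw [mul_smul, mul_smul]
      exact h3.symm
  · left
    intro x hx y hy hxd hyd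
    obtain ⟨⟨_, g, rfl⟩, h1, h3⟩ := is_two_pretransitive_iff.mp h2
      (show (⟨d, hd⟩ : α) ≠ ⟨x, hx⟩ from fun h => hxd (congrArg Subtype.val h).symm)
      (show (⟨d, hd⟩ : α) ≠ ⟨y, hy⟩ from fun h => hyd (congrArg Subtype.val h).symm)
    exact ⟨g, g.2, congrArg Subtype.val h1, congrArg Subtype.val h3⟩

/-- The number of pairs covered by a family of `m + 1`-sets closed under its own pairs. -/
theorem design_dvd {Ω : Type*} [Fintype Ω] {m : ℕ} (F : Ω → Ω → Finset Ω)
    (hmem : ∀ x y, x ≠ y → x ∈ F x y ∧ y ∈ F x y)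
    (hcard : ∀ x y, x ≠ y → (F x y).card = m + 1)
    (hclosed : ∀ x y u v, x ≠ y → u ≠ v → u ∈ F x y → v ∈ F x y → F u v = F x y) :
    (∀ a : Ω, m ∣ Fintype.card Ω - 1) ∧ (m + 1) * m ∣ Fintype.card Ω * (Fintype.card Ω - 1) := by
  constructor
  · intro a
    have h := Finset.card_eq_sum_card_image (fun y => F a y) ((Finset.univ : Finset Ω).erase a)
    rw [Finset.card_erase_of_mem (Finset.mem_univ a), Finset.card_univ] at h
    rw [h]
    refine Finset.dvd_sum fun L hL => ?_
    obtain ⟨y, hy, rfl⟩ := Finset.mem_image.mp hL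
    have hay := (Finset.mem_erase.mp hy).1.symm
    have : (((Finset.univ : Finset Ω).erase a).filter fun z => F a z = F a y) = (F a y).erase a := by
      ext z
      simp only [Finset.mem_filter, Finset.mem_erase, Finset.mem_univ, and_true]
      constructor
      · rintro ⟨hz, he⟩
        exact ⟨hz, he ▸ (hmem a z (Ne.symm hz)).2⟩
      · rintro ⟨hz, hzF⟩
        exact ⟨hz, hclosed a y a z hay (Ne.symm hz) (hmem a y hay).1 hzF⟩
    rw [this, Finset.card_erase_of_mem (hmem a y hay).1, hcard a y hay]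
    exact dvd_refl _
  · have h := Finset.card_eq_sum_card_image (fun q : Ω × Ω => F q.1 q.2)
      (Finset.univ : Finset Ω).offDiag
    rw [Finset.offDiag_card, Finset.card_univ, ← Nat.mul_sub_one] at h
    rw [h]
    refine Finset.dvd_sum fun L hL => ?_
    obtain ⟨⟨x, y⟩, hxy, rfl⟩ := Finset.mem_image.mp hL
    have hxy' : x ≠ y := (Finset.mem_offDiag.mp hxy).2.2
    have : ((Finset.univ : Finset Ω).offDiag.filter fun q => F q.1 q.2 = F x y) = (F x y).offDiag := by
      ext ⟨u, v⟩
      simp only [Finset.mem_filter, Finset.mem_offDiag, Finset.mem_univ, true_and]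
      constructor
      · rintro ⟨huv, he⟩
        exact ⟨he ▸ (hmem u v huv).1, he ▸ (hmem u v huv).2, huv⟩
      · rintro ⟨hu, hv, huv⟩
        exact ⟨huv, hclosed x y u v hxy' huv hu hv⟩
    rw [this, Finset.offDiag_card, hcard x y hxy', ← Nat.mul_sub_one, Nat.add_sub_cancel]

/-- No such family with `p + 1` points in each member lives on `p² + 1` points. -/
theorem no_design {Ω : Type*} [Fintype Ω] {p : ℕ} (hp : p.Prime) (hΩ : Fintype.card Ω = p ^ 2 + 1)
    (F : Ω → Ω → Finset Ω)
    (hmem : ∀ x y, x ≠ y → x ∈ F x y ∧ y ∈ F x y)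
    (hcard : ∀ x y, x ≠ y → (F x y).card = p + 1)
    (hclosed : ∀ x y u v, x ≠ y → u ≠ v → u ∈ F x y → v ∈ F x y → F u v = F x y) : False := by
  have h := (design_dvd F hmem hcard hclosed).2
  rw [hΩ, Nat.add_sub_cancel] at h
  have h1 : p + 1 ∣ (p ^ 2 + 1) * p :=
    Nat.dvd_of_mul_dvd_mul_right hp.pos (by rw [mul_assoc, ← pow_two]; exact h)
  have h2 : (p + 1).Coprime p := by simp
  have h3 := h2.dvd_of_dvd_mul_right h1
  have h4 : p + 1 ∣ p ^ 2 + 1 - 2 + 2 := by
    rwa [Nat.sub_add_cancel (by nlinarith [hp.two_le])]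
  have h5 : p + 1 ∣ p ^ 2 + 1 - 2 := by
    refine ⟨p - 1, ?_⟩
    obtain ⟨q, rfl⟩ := Nat.exists_eq_add_of_le hp.one_le
    simp only [Nat.add_sub_cancel_left]
    have : (1 + q) ^ 2 + 1 = (1 + q + 1) * q + 2 := by ring
    omega
  have := Nat.le_of_dvd two_pos ((Nat.dvd_add_right h5).mp h4)
  have := hp.two_le
  omega

end CfsgLib.SquareDegree
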