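import Cfsg.Agent.Lib.PermGroup.SquareDegree.Sylow

/-!
The elements fixing every class around a point act faithfully on each class; the dichotomies coming
from Burnside's theorem on prime degree.
-/

set_option autoImplicit false

namespace CfsgLib.SquareDegree.Setting

open MulAction
open scoped Classical Pointwise

variable {G Ω : Type*} [Group G] [MulAction G Ω] [Fintype Ω] [Finite G] {p : ℕ}
  (S : Setting G Ω p)

theorem class_transitive {a x y : Ω} (h : S.R a x y) : ∃ u ∈ S.K a, u • x = y := by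
  obtain ⟨P, Z, -, -, -, -, -, hZK, hZt, -⟩ := S.exists_abelian a
  obtain ⟨u, hu, he⟩ := hZt x y h
  exact ⟨u, hZK hu, he⟩

include S in
/-- An element fixing all classes around `a` and one of them pointwise is trivial. -/
theorem faithful_class {a b : Ω} (hab : a ≠ b) {g : G} (hg : g ∈ S.K a)
    (hfix : ∀ z ∈ S.line a b, g • z = z) : g = 1 := by
  haveI := Fact.mk S.prime
  haveI := S.faith
  let M : Subgroup G :=
    { carrier := {g | g ∈ S.K a ∧ ∀ z ∈ S.line a b, g • z = z}
      one_mem' := ⟨one_mem _, fun z _ => one_smul G z⟩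
      mul_mem' := fun {g h} hg hh => ⟨mul_mem hg.1 hh.1, fun z hz => by
        rw [mul_smul, hh.2 z hz, hg.2 z hz]⟩
      inv_mem' := fun {g} hg => ⟨inv_mem hg.1, fun z hz => by
        rw [inv_smul_eq_iff, hg.2 z hz]⟩ }
  have hnorm : ∀ u ∈ S.K a, ∀ m ∈ M, u * m * u⁻¹ ∈ M := by
    rintro u hu m ⟨hm, hmz⟩
    refine ⟨S.conj_mem_K_stab hu.1 hm, fun z hz => ?_⟩
    have h := S.smul_line_of_mem_K hab.symm (inv_mem hu)
    rw [mul_smul, mul_smul, hmz _ (h ▸ Finset.smul_mem_smul_finset hz), smul_inv_smul]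
  refine eq_of_smul_eq_smul (α := Ω) fun d => ?_
  rw [one_smul]
  by_cases hda : d = a
  · rw [hda]; exact hg.1
  set D : Finset Ω := Finset.univ.filter fun z => S.R a d z with hD
  let O : Ω → Finset Ω := fun x => D.filter fun y => y ∈ orbit M x
  have hMD : ∀ x ∈ D, ∀ y ∈ orbit M x, y ∈ D := by
    rintro x hx _ ⟨m, rfl⟩
    have hx' := (Finset.mem_filter.mp hx).2
    exact Finset.mem_filter.mpr ⟨Finset.mem_univ _, S.trans hx' (m.2.1.2 x (S.ne_right hx'))⟩
  have hO : ∀ x ∈ D, (O x : Set Ω) = orbit M x := fun x hx => by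
    ext y
    simp only [O, Finset.coe_filter, Set.mem_setOf_eq]
    exact ⟨fun h => h.2, fun h => ⟨hMD x hx y h, h⟩⟩
  have hsize : ∀ x ∈ D, (orbit M x).ncard = (orbit M d).ncard := by
    intro x hx
    obtain ⟨u, hu, rfl⟩ := S.class_transitive (Finset.mem_filter.mp hx).2
    rw [← Set.ncard_image_of_injective (orbit M d) (MulAction.injective u)]
    congr 1
    ext y
    constructor
    · rintro ⟨m, rfl⟩
      refine ⟨_, ⟨⟨u⁻¹ * m * u, by simpa using hnorm u⁻¹ (inv_mem hu) m m.2⟩, rfl⟩, ?_⟩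
      show u • ((u⁻¹ * (m : G) * u) • d) = (m : G) • u • d
      simp [← mul_smul, ← mul_assoc]
    · rintro ⟨_, ⟨m, rfl⟩, rfl⟩
      refine ⟨⟨u * m * u⁻¹, hnorm u hu m m.2⟩, ?_⟩
      show (u * (m : G) * u⁻¹) • u • d = u • (m : G) • d
      simp [← mul_smul, ← mul_assoc]
  have hdvd : (orbit M d).ncard ∣ p := by
    rw [← S.class_card hda, ← hD, Finset.card_eq_sum_card_image O D]
    refine Finset.dvd_sum fun L hL => ?_
    obtain ⟨x, hx, rfl⟩ := Finset.mem_image.mp hL
    have : (D.filter fun z => O z = O x) = O x := by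
      ext z
      simp only [Finset.mem_filter]
      constructor
      · rintro ⟨hz, he⟩
        rw [← he]
        exact Finset.mem_filter.mpr ⟨hz, mem_orbit_self z⟩
      · intro hz
        obtain ⟨hzD, hzo⟩ := Finset.mem_filter.mp hz
        refine ⟨hzD, Finset.coe_injective ?_⟩
        rw [hO z hzD, hO x hx, orbit_eq_iff.mpr hzo]
    rw [this, ← Set.ncard_coe_finset, hO x hx, hsize x hx]
  rcases (Nat.dvd_prime S.prime).mp hdvd with h1 | hp
  · obtain ⟨w, hw⟩ := Set.ncard_eq_one.mp h1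
    have e1 : g • d ∈ ({w} : Set Ω) := hw ▸ ⟨⟨g, hg, hfix⟩, rfl⟩
    have e2 : d ∈ ({w} : Set Ω) := hw ▸ mem_orbit_self d
    exact (Set.mem_singleton_iff.mp e1).trans (Set.mem_singleton_iff.mp e2).symm
  · exfalso
    refine S.not_dvd hab ((Dvd.intro (Nat.card (M ⊓ stabilizer G d : Subgroup G)) ?_).trans
      (Subgroup.card_dvd_of_le (show M ≤ stabilizer G a ⊓ stabilizer G b from
        fun m hm => ⟨hm.1.1, hm.2 b (S.right_mem_line hab.symm)⟩)))
    rw [← hp]
    exact (card_eq_orbit_mul M d).symm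

include S in
/-- An element fixing a line pointwise commutes with the elements fixing all classes. -/
theorem commute_of_fix_line {a b : Ω} (hab : a ≠ b) {g : G}
    (hfix : ∀ z ∈ S.line a b, g • z = z) {u : G} (hu : u ∈ S.K a) : g * u = u * g := by
  have hga : g • a = a := hfix a (S.left_mem_line a b)
  have key : g * u * g⁻¹ * u⁻¹ = 1 := by
    refine S.faithful_class hab (mul_mem (S.conj_mem_K_stab hga hu) (inv_mem hu)) fun z hz => ?_
    have h1 : u⁻¹ • z ∈ S.line a b :=
      S.smul_line_of_mem_K hab.symm (inv_mem hu) ▸ Finset.smul_mem_smul_finset hz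
    have h2 : g⁻¹ • u⁻¹ • z = u⁻¹ • z := by rw [inv_smul_eq_iff, hfix _ h1]
    rw [mul_smul, mul_smul, mul_smul, h2, smul_inv_smul, hfix z hz]
  exact mul_inv_eq_iff_eq_mul.mp (mul_inv_eq_one.mp key)

include S in
theorem class_dichotomy {a b : Ω} (hab : a ≠ b) :
    (∀ x y, S.R a b x → S.R a b y → x ≠ b → y ≠ b → ∃ l ∈ S.L a b, l • x = y) ∨
      ((∀ l ∈ S.L a b, ∀ x, S.R a b x → x ≠ b → l • x = x → l = 1) ∧
        ∀ l ∈ S.L a b, ∀ l' ∈ S.L a b, l * l' = l' * l) := by
  haveI := Fact.mk S.prime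
  set D : Finset Ω := Finset.univ.filter fun z => S.R a b z with hD
  have hline : ∀ z ∈ S.line a b, z = a ∨ z ∈ D := fun z hz =>
    (S.mem_line.mp hz).imp_right fun h => Finset.mem_filter.mpr ⟨Finset.mem_univ _, h⟩
  rcases prime_dichotomy (S.K a) D
    (fun g hg x hx => by
      have h := (Finset.mem_filter.mp hx).2
      exact Finset.mem_filter.mpr ⟨Finset.mem_univ _, S.trans h (hg.2 x (S.ne_right h))⟩)
    (S.class_card hab.symm)
    (fun x hx y hy => S.class_transitive
      (S.trans (S.symm (Finset.mem_filter.mp hx).2) (Finset.mem_filter.mp hy).2))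
    (d := b) (Finset.mem_filter.mpr ⟨Finset.mem_univ _, S.refl hab.symm⟩) with h | ⟨h1, h2⟩
  · left
    intro x y hx hy hxb hyb
    obtain ⟨l, hl, hlb, hlxy⟩ := h x (Finset.mem_filter.mpr ⟨Finset.mem_univ _, hx⟩) y
      (Finset.mem_filter.mpr ⟨Finset.mem_univ _, hy⟩) hxb hyb
    exact ⟨l, ⟨hl, hlb⟩, hlxy⟩
  · right
    refine ⟨fun l hl x hx hxb hlx => S.faithful_class hab hl.1 fun z hz => ?_,
      fun l hl l' hl' => ?_⟩
    · rcases hline z hz with rfl | hzD
      · exact hl.1.1
      · exact h1 l hl.1 hl.2 x (Finset.mem_filter.mpr ⟨Finset.mem_univ _, hx⟩) hxb hlx z hzD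
    · refine inv_mul_eq_one.mp (S.faithful_class hab
        (mul_mem (inv_mem (mul_mem hl.1 hl'.1)) (mul_mem hl'.1 hl.1)) fun z hz => ?_)
      rw [mul_smul, inv_smul_eq_iff]
      rcases hline z hz with rfl | hzD
      · rw [(mul_mem hl'.1 hl.1 : l' * l ∈ S.K z).1, (mul_mem hl.1 hl'.1 : l * l' ∈ S.K z).1]
      · exact (h2 l hl.1 hl.2 l' hl'.1 hl'.2 z hzD).symm

/-- A two-point stabiliser of `a`, `b` permutes the other classes around `a` transitively. -/
def Trans (a b : Ω) : Prop :=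
  ∀ x y, x ∉ S.line a b → y ∉ S.line a b →
    ∃ g : G, g • a = a ∧ g • b = b ∧ S.R a (g • x) y

/-- A two-point stabiliser of `a`, `b` acts semiregularly on the other classes around `a`. -/
def Semi (a b : Ω) : Prop :=
  ∀ g : G, g • a = a → g • b = b → ∀ x, x ∉ S.line a b → S.R a x (g • x) → g ∈ S.K a

include S in
theorem lines_dichotomy {a b : Ω} (hab : a ≠ b) : S.Trans a b ∨ S.Semi a b := by
  haveI := Fact.mk S.prime
  rcases prime_dichotomy (stabilizer G a) (S.lines a)
    (fun g hg D hD => S.smul_mem_lines hg hD) (S.card_lines a)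
    (fun D hD D' hD' => by
      obtain ⟨x, hx, rfl⟩ := S.exists_of_mem_lines hD
      obtain ⟨y, hy, rfl⟩ := S.exists_of_mem_lines hD'
      obtain ⟨g, hga, hgx⟩ := S.exists_pair hx.symm hy.symm
      exact ⟨g, hga, by rw [S.smul_line, hga, hgx]⟩)
    (d := S.line a b) (S.line_mem_lines hab.symm) with h | ⟨h, -⟩
  · left
    intro x y hx hy
    have hxa : x ≠ a := fun e => hx (e ▸ S.left_mem_line a b)
    have hya : y ≠ a := fun e => hy (e ▸ S.left_mem_line a b)
    obtain ⟨g, hg, hgb, hgx⟩ := h _ (S.line_mem_lines hxa) _ (S.line_mem_lines hya)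
      (fun e => hx (e ▸ S.right_mem_line hxa)) (fun e => hy (e ▸ S.right_mem_line hya))
    have hga : g • a = a := hg
    obtain ⟨u, hu, hub⟩ := S.class_transitive (S.symm ((S.rel_iff_line_fixed hga hab.symm).mp hgb))
    refine ⟨u * g, by rw [mul_smul, hga, hu.1], by rw [mul_smul, hub], ?_⟩
    have hgxa : g • x ≠ a := fun e => hxa (smul_left_cancel g (e.trans hga.symm))
    have hR : S.R a (g • x) y := by
      refine S.rel_of_line_eq hya ?_
      conv_rhs => rw [← hga, ← S.smul_line, hgx]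
    rw [mul_smul]
    exact S.trans (S.symm (hu.2 _ hgxa)) hR
  · right
    intro g hga hgb x hx hR
    have hxa : x ≠ a := fun e => hx (e ▸ S.left_mem_line a b)
    exact S.mem_K_of_lines hga (h g hga (by rw [S.smul_line, hga, hgb]) _ (S.line_mem_lines hxa)
      (fun e => hx (e ▸ S.right_mem_line hxa)) ((S.rel_iff_line_fixed hga hxa).mpr hR))

include S in
theorem semi_smul {a b : Ω} (h : S.Semi a b) (k : G) : S.Semi (k • a) (k • b) := by
  intro g hga hgb x hx hR
  have key : k⁻¹ * g * k ∈ S.K a := by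
    refine h _ (by rw [mul_smul, mul_smul, hga, inv_smul_smul])
      (by rw [mul_smul, mul_smul, hgb, inv_smul_smul]) (k⁻¹ • x) ?_ ?_
    · rw [Finset.inv_smul_mem_iff, S.smul_line]; exact hx
    · have := S.smul k⁻¹ hR
      rw [inv_smul_smul] at this
      rwa [mul_smul, mul_smul, smul_inv_smul]
  have := S.conj_mem_K key k
  simpa [mul_assoc] using this

include S in
theorem semi_or_trans :
    (∀ a b : Ω, a ≠ b → S.Semi a b) ∨ ∀ a b : Ω, a ≠ b → S.Trans a b := by
  by_cases h : ∀ a b : Ω, a ≠ b → S.Trans a b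
  · exact Or.inr h
  left
  simp only [not_forall] at h
  obtain ⟨a, b, hab, hT⟩ := h
  have hs := (S.lines_dichotomy hab).resolve_left hT
  intro x y hxy
  obtain ⟨k, rfl, rfl⟩ := S.exists_pair hab hxy
  exact S.semi_smul hs k

end CfsgLib.SquareDegree.Setting
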