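import Cfsg.Agent.Lib.PermGroup.SquareDegree.TrivialKernel
import Cfsg.Agent.Lib.PermSmall.AbelianKernel
import Cfsg.Agent.Lib.PermGroup.SharpTwoKernel

/-!
A doubly transitive group of degree `p² + 1`, `p` odd, has no invariant system of classes around its
points: it would be a Zassenhaus group with too small a two-point stabiliser.
-/

set_option autoImplicit false

namespace CfsgLib.SquareDegree.Setting

open MulAction
open scoped Classical Pointwise
open CfsgLib.PermSmall.Zassenhaus (pairStab)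

universe u v

variable {G : Type u} {Ω : Type v} [Group G] [MulAction G Ω] [Fintype Ω] [Finite G] {p : ℕ}
  (S : Setting G Ω p)

include S in
theorem L_one {a b : Ω} (hab : a ≠ b) {g : G} (hg : g ∈ S.K a) (hgb : g • b = b) : g = 1 :=
  Subgroup.mem_bot.mp (S.L_bot hab ▸ (⟨hg, hgb⟩ : g ∈ S.L a b))

include S in
theorem card_K (a : Ω) : Nat.card (S.K a) = p := by
  obtain ⟨b, hb⟩ : ∃ b, b ≠ a := Fintype.exists_ne_of_one_lt_card
    (by rw [S.card]; nlinarith [S.prime.two_le]) a
  rw [card_eq_orbit_mul (S.K a) b,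
    show S.K a ⊓ stabilizer G b = S.L a b from rfl, S.L_bot hb.symm, Subgroup.card_bot, mul_one]
  rw [show orbit (S.K a) b = ((Finset.univ.filter fun z => S.R a b z : Finset Ω) : Set Ω) from ?_,
    Set.ncard_coe_finset, S.class_card hb]
  ext z
  simp only [Finset.coe_filter, Finset.mem_univ, true_and, Set.mem_setOf_eq]
  constructor
  · rintro ⟨k, rfl⟩
    exact k.2.2 b hb
  · intro h
    obtain ⟨u, hu, rfl⟩ := S.class_transitive h
    exact ⟨⟨u, hu⟩, rfl⟩

include S in
/-- An element fixing a line pointwise is trivial. -/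
theorem eq_one_of_fix_line {a b : Ω} (hab : a ≠ b) {g : G}
    (h : ∀ z ∈ S.line a b, g • z = z) : g = 1 := by
  have hga : g • a = a := h a (S.left_mem_line a b)
  have hgb : g • b = b := h b (S.right_mem_line hab.symm)
  refine S.L_one hab.symm ?_ hga
  rcases S.semi_or_trans with hS | hT
  · obtain ⟨x, hx, hx'⟩ : ∃ x, x ∈ S.line a b ∧ x ∉ S.line b a := by
      by_contra hall
      simp only [not_exists, not_and, not_not] at hall
      exact S.line_ne hab (Finset.eq_of_subset_of_card_le hall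
        (by rw [S.card_line hab, S.card_line hab.symm]))
    refine hS b a hab.symm g hgb hga x hx' ?_
    rw [h x hx]
    exact S.refl fun e => hx' (e ▸ S.left_mem_line b a)
  · refine S.mem_K_of_lines hgb fun D hD => ?_
    obtain ⟨y, hy, rfl⟩ := S.exists_of_mem_lines hD
    by_cases hya : y ∈ S.line b a
    · rw [S.line_eq ((S.mem_line.mp hya).resolve_left hy), S.smul_line, hgb, hga]
    · obtain ⟨-, hmeet, -⟩ := S.trans_meet hab.symm (hT b a hab.symm)
      obtain ⟨d, hd, hR⟩ := hmeet y hya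
      rw [← S.line_eq hR, S.smul_line, hgb, h d hd]

include S in
theorem eq_one_of_fix_three {a b x : Ω} (hab : a ≠ b) (hxa : x ≠ a) (hxb : x ≠ b) {g : G}
    (hga : g • a = a) (hgb : g • b = b) (hgx : g • x = x) : g = 1 := by
  haveI := Fact.mk S.prime
  have hnear : ∀ {a b x : Ω}, a ≠ b → x ≠ b → S.R a b x → g • a = a → g • b = b → g • x = x →
      g = 1 := by
    intro a b x hab hxb hR hga hgb hgx
    refine S.eq_one_of_fix_line hab fun z hz => ?_
    rcases S.mem_line.mp hz with rfl | hz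
    · exact hga
    obtain ⟨u, hu, hux⟩ := S.class_transitive hR
    obtain ⟨v, hv, hvz⟩ := S.class_transitive hz
    have hgu : g * u = u * g := by
      have key : (u⁻¹ * (g * u * g⁻¹)) = 1 := by
        refine S.L_one hab (mul_mem (inv_mem hu) (S.conj_mem_K_stab hga hu)) ?_
        rw [mul_smul, mul_smul, mul_smul, inv_smul_eq_iff.mpr hgb.symm, hux, hgx, ← hux,
          inv_smul_smul]
      exact mul_inv_eq_iff_eq_mul.mp (inv_mul_eq_one.mp key).symm
    have hu1 : (⟨u, hu⟩ : S.K a) ≠ 1 := fun e => hxb (by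
      rw [← hux, show u = 1 from congrArg Subtype.val e, one_smul])
    obtain ⟨j, hj⟩ := Subgroup.mem_zpowers_iff.mp
      (mem_zpowers_of_prime_card (g' := (⟨v, hv⟩ : S.K a)) (S.card_K a) hu1)
    have hv' : v = u ^ j := by
      rw [show u ^ j = (((⟨u, hu⟩ : S.K a) ^ j : S.K a) : G) by simp, hj]
    have : g * v = v * g := by
      rw [hv']
      exact ((show Commute g u from hgu).zpow_right j).eq
    rw [← hvz, ← mul_smul, this, mul_smul, hgb]
  by_cases hxl : x ∈ S.line a b
  · exact hnear hab hxb ((S.mem_line.mp hxl).resolve_left hxa) hga hgb hgx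
  rcases S.semi_or_trans with hS | hT
  · refine S.L_one hab (hS a b hab g hga hgb x hxl ?_) hgb
    rw [hgx]
    exact S.refl hxa
  · obtain ⟨hdisj, hmeet, hinj⟩ := S.trans_meet hab (hT a b hab)
    obtain ⟨d, hd, hR⟩ := hmeet x hxl
    have hda : d ≠ a := S.ne_right hR
    have hdb : d ≠ b := fun e => hxl (S.mem_line.mpr (Or.inr (by rw [← e]; exact S.symm hR)))
    have hgd : g • d = d := by
      have hR' := S.smul g hR
      rw [hga, hgx] at hR'
      exact (hinj d hd (g • d) (S.smul_mem_line hgb hga hd) hda hdb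
        (S.trans (S.symm hR) hR')).symm
    exact hnear hab.symm hda ((S.mem_line.mp hd).resolve_left hdb) hgb hga hgd

include S in
theorem not_prime_pow {r j : ℕ} (hr : r.Prime) (h : r ^ j = p ^ 2 + 1) : False := by
  obtain ⟨q, hq⟩ : Odd p := S.prime.odd_of_ne_two (by have := S.three_le; omega)
  have hmod : (p ^ 2 + 1) % 4 = 2 := by
    rw [hq, show (2 * q + 1) ^ 2 + 1 = 4 * (q ^ 2 + q) + 2 by ring]
    omega
  have hj : j ≠ 0 := by
    rintro rfl
    rw [pow_zero] at h
    nlinarith [S.three_le]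
  have h2 : 2 ∣ r ^ j := by rw [h]; omega
  obtain rfl := (Nat.prime_dvd_prime_iff_eq Nat.prime_two hr).mp (Nat.prime_two.dvd_of_dvd_pow h2)
  rcases Nat.lt_or_ge j 2 with hj2 | hj2
  · have : j = 1 := by omega
    subst this
    rw [pow_one] at h
    nlinarith [S.three_le]
  · obtain ⟨i, rfl⟩ := Nat.exists_eq_add_of_le hj2
    rw [pow_add] at h
    omega

include S in
/-- There is no such system of classes. -/
theorem false_of_setting : False := by
  haveI := Fact.mk S.prime
  haveI := S.faith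
  have hp3 := S.three_le
  obtain ⟨a, b, hab⟩ := Fintype.exists_pair_of_one_lt_card (α := Ω) (by rw [S.card]; nlinarith)
  haveI : Nonempty Ω := ⟨a⟩
  obtain ⟨P, Z, hPa, hPc, hPcard, hPt, hZP, hZK, hZt, hPfree⟩ := S.exists_abelian a
  have hZeq : ∀ k ∈ S.K a, k ∈ P := by
    intro k hk
    obtain ⟨u, hu, hub⟩ := hZt b (k • b) (hk.2 b hab.symm)
    have : u⁻¹ * k = 1 :=
      S.L_one hab (mul_mem (inv_mem (hZK hu)) hk) (by rw [mul_smul, inv_smul_eq_iff, hub])
    rw [← inv_mul_eq_one.mp this]
    exact hZP hu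
  have hcent : ∀ f : G, f • a = a → (∀ u ∈ S.K a, f * u = u * f) → f ∈ P := by
    intro f hfa hf
    have hfb : f • b ≠ a := fun e => hab (smul_left_cancel f (hfa.trans e.symm))
    obtain ⟨u, hu, hub⟩ := hPt b (f • b) hab.symm hfb
    have : u⁻¹ * f = 1 := by
      refine S.eq_one_of_fix_line hab fun z hz => ?_
      have h1 : (u⁻¹ * f) • a = a := by
        rw [mul_smul, hfa, inv_smul_eq_iff]; exact (hPa hu).symm
      have h2 : (u⁻¹ * f) • b = b := by rw [mul_smul, inv_smul_eq_iff, hub]
      rcases S.mem_line.mp hz with rfl | hz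
      · exact h1
      obtain ⟨v, hv, rfl⟩ := S.class_transitive hz
      have hcom : (u⁻¹ * f) * v = v * (u⁻¹ * f) := by
        have h3 : u⁻¹ * v = v * u⁻¹ :=
          congrArg Subtype.val (hPc.is_comm.comm (⟨u⁻¹, inv_mem hu⟩ : P) ⟨v, hZeq v hv⟩)
        rw [mul_assoc, hf v hv, ← mul_assoc, h3, mul_assoc]
      rw [← mul_smul, hcom, mul_smul, h2]
    rw [← inv_mul_eq_one.mp this]
    exact hu
  have hPn : (P.subgroupOf (stabilizer G a)).Normal := by
    refine ⟨fun u hu g => hcent _ (mul_mem (mul_mem g.2 (hPa hu)) (inv_mem g.2)) fun k hk => ?_⟩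
    have hk' : (g : G)⁻¹ * k * g ∈ S.K a := by
      simpa using S.conj_mem_K_stab (inv_mem g.2 : (g : G)⁻¹ ∈ stabilizer G a) hk
    have hc : (u : G) * ((g : G)⁻¹ * k * g) = ((g : G)⁻¹ * k * g) * u :=
      congrArg Subtype.val (hPc.is_comm.comm (⟨(u : G), hu⟩ : P) ⟨_, hZeq _ hk'⟩)
    show (g : G) * u * (g : G)⁻¹ * k = k * ((g : G) * u * (g : G)⁻¹)
    calc (g : G) * u * (g : G)⁻¹ * k = g * ((u : G) * ((g : G)⁻¹ * k * g)) * (g : G)⁻¹ := by group
      _ = k * ((g : G) * u * (g : G)⁻¹) := by rw [hc]; group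
  have hreg : ∀ y z : Ω, y ≠ a → z ≠ a → ∃! u : P, (u : G) • y = z := by
    intro y z hy hz
    obtain ⟨u, hu, huy⟩ := hPt y z hy hz
    refine ⟨⟨u, hu⟩, huy, fun w hw => Subtype.ext (inv_mul_eq_one.mp
      (hPfree _ (mul_mem (inv_mem hu) w.2) y hy (by rw [mul_smul, hw, ← huy, inv_smul_smul]))).symm⟩
  have hthree : ∀ g : G, ∀ x y z : Ω, x ≠ y → y ≠ z → x ≠ z → g • x = x → g • y = y → g • z = z →
      g = 1 := fun g x y z hxy hyz hxz hx hy hz =>
    S.eq_one_of_fix_three hxy (Ne.symm hxz) (Ne.symm hyz) hx hy hz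
  by_cases hfix : ∃ g : G, g ≠ 1 ∧ ∃ x y : Ω, x ≠ y ∧ g • x = x ∧ g • y = y
  swap
  · -- sharply doubly transitive
    simp only [not_exists, not_and] at hfix
    obtain ⟨-, -, -, -, -, -, r, j, hr, -, hcard, -⟩ := CfsgLib.PermGroup.sharpTwo_kernel S.two
      (fun g x y hxy hx hy => by_contra fun h1 => hfix g h1 x y hxy hx hy)
      (by rw [Nat.card_eq_fintype_card, S.card]; nlinarith)
    rw [Nat.card_eq_fintype_card, S.card] at hcard
    exact S.not_prime_pow hr hcard.symm
  have hZ : Cfsg.IsZassenhausGroup G Ω := by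
    refine ⟨S.faith, S.two, hthree, hfix, fun N hN hNt => ?_⟩
    by_contra hall
    simp only [not_exists, ne_eq, not_not] at hall
    haveI := hN
    haveI := hNt
    have hNb : N ≠ ⊥ := by
      rintro rfl
      obtain ⟨⟨n, hn⟩, hne⟩ := exists_smul_eq (⊥ : Subgroup G) a b
      rw [Subgroup.mem_bot] at hn
      subst hn
      exact hab ((one_smul G a).symm.trans hne)
    obtain ⟨-, r, hr, hexp⟩ := CfsgLib.PermGroup.regular_normal_elementary S.two N hNb hall
    haveI := Fact.mk hr
    have hNp : IsPGroup r N := fun n => ⟨1, Subtype.ext (by simpa using hexp n n.2)⟩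
    obtain ⟨j, hj⟩ := IsPGroup.iff_card.mp hNp
    refine S.not_prime_pow hr (j := j) ?_
    rw [← hj, ← S.card, ← Nat.card_eq_fintype_card (α := Ω)]
    have h := (hall a) ▸ index_stabilizer_of_transitive N a
    rw [Subgroup.index_bot] at h
    exact h
  obtain ⟨c, hc⟩ : ∃ c, c ∈ ((S.line a b).erase a).erase b := by
    refine Finset.card_pos.mp ?_
    rw [Finset.card_erase_of_mem (Finset.mem_erase.mpr ⟨hab.symm, S.right_mem_line hab.symm⟩),
      Finset.card_erase_of_mem (S.left_mem_line a b), S.card_line hab.symm]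
    omega
  simp only [Finset.mem_erase] at hc
  have hEle : Nat.card (pairStab G a b) ≤ p - 1 := by
    have hT : (((S.line a b).erase a).erase b).card = p - 1 := by
      rw [Finset.card_erase_of_mem (Finset.mem_erase.mpr ⟨hab.symm, S.right_mem_line hab.symm⟩),
        Finset.card_erase_of_mem (S.left_mem_line a b), S.card_line hab.symm]
      omega
    rw [← hT, ← Fintype.card_coe, ← Nat.card_eq_fintype_card]
    refine Nat.card_le_card_of_injective
      (fun e => ⟨(e : G) • c, ?_⟩ : pairStab G a b →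
        {z // z ∈ ((S.line a b).erase a).erase b}) ?_
    · simp only [Finset.mem_erase]
      exact ⟨fun h => hc.1 (smul_left_cancel (e : G) (h.trans e.2.2.symm)),
        fun h => hc.2.1 (smul_left_cancel (e : G) (h.trans e.2.1.symm)),
        S.smul_mem_line e.2.1 e.2.2 hc.2.2⟩
    · intro e e' h
      have h' : (e : G) • c = (e' : G) • c := congrArg Subtype.val h
      refine Subtype.ext (inv_mul_eq_one.mp (S.eq_one_of_fix_three hab hc.2.1 hc.1 ?_ ?_ ?_)).symm
      · rw [mul_smul, inv_smul_eq_iff, show (e' : G) • a = a from e'.2.1]; exact e.2.1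
      · rw [mul_smul, inv_smul_eq_iff, show (e' : G) • b = b from e'.2.2]; exact e.2.2
      · rw [mul_smul, h', inv_smul_smul]
  have hbound : Fintype.card Ω - 2 ≤ 2 * Nat.card (pairStab G a b) := by
    rcases Nat.even_or_odd (Nat.card (pairStab G a b)) with he | ho
    · exact CfsgLib.PermSmall.Zassenhaus.le_two_mul_card hZ hab he
    · exact (CfsgLib.PermSmall.AbelianKernel.card_le_of_odd hab G hZ P hPa hPn hPc hreg ho).1
  rw [S.card] at hbound
  have : p ^ 2 ≤ 2 * p := by omega
  nlinarith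

end CfsgLib.SquareDegree.Setting
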