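import Cfsg.Agent.Lib.PermGroup.SquareDegree.Dichotomy

/-!
A doubly transitive group of degree `p² + 1`, `p` odd, with an invariant system of `p` classes of
`p` points around every point: lines, their kernels, and the basic invariance facts.
-/

set_option autoImplicit false

namespace CfsgLib.SquareDegree

open MulAction
open scoped Classical Pointwise

/-- `R x y z`: the points `y`, `z` lie in one class around `x`. -/
structure Setting (G Ω : Type*) [Group G] [MulAction G Ω] [Fintype Ω] (p : ℕ) where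
  prime : p.Prime
  three_le : 3 ≤ p
  card : Fintype.card Ω = p ^ 2 + 1
  two : IsMultiplyPretransitive G Ω 2
  faith : FaithfulSMul G Ω
  R : Ω → Ω → Ω → Prop
  ne_left : ∀ {x y z}, R x y z → y ≠ x
  refl : ∀ {x y}, y ≠ x → R x y y
  symm : ∀ {x y z}, R x y z → R x z y
  trans : ∀ {x y z w}, R x y z → R x z w → R x y w
  smul : ∀ (g : G) {x y z}, R x y z → R (g • x) (g • y) (g • z)
  class_card : ∀ {x y}, y ≠ x → (Finset.univ.filter fun z => R x y z).card = p

variable {G Ω : Type*} [Group G] [MulAction G Ω] [Fintype Ω] {p : ℕ} (S : Setting G Ω p)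

namespace Setting

theorem ne_right {x y z : Ω} (h : S.R x y z) : z ≠ x := S.ne_left (S.symm h)

theorem smul_iff (g : G) {x y z : Ω} : S.R (g • x) (g • y) (g • z) ↔ S.R x y z :=
  ⟨fun h => by simpa only [inv_smul_smul] using S.smul g⁻¹ h, S.smul g⟩

include S in
theorem exists_pair {a b x y : Ω} (hab : a ≠ b) (hxy : x ≠ y) : ∃ g : G, g • a = x ∧ g • b = y :=
  is_two_pretransitive_iff.mp S.two hab hxy

/-- The class of `y` around `x`, with `x`. -/
noncomputable def line (x y : Ω) : Finset Ω := insert x (Finset.univ.filter fun z => S.R x y z)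

theorem mem_line {x y z : Ω} : z ∈ S.line x y ↔ z = x ∨ S.R x y z := by
  simp [line]

theorem left_mem_line (x y : Ω) : x ∈ S.line x y := S.mem_line.mpr (Or.inl rfl)

theorem right_mem_line {x y : Ω} (h : y ≠ x) : y ∈ S.line x y := S.mem_line.mpr (Or.inr (S.refl h))

theorem card_line {x y : Ω} (h : y ≠ x) : (S.line x y).card = p + 1 := by
  rw [line, Finset.card_insert_of_notMem, S.class_card h]
  simp only [Finset.mem_filter, Finset.mem_univ, true_and]
  exact fun hR => S.ne_right hR rfl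

theorem line_eq {x y z : Ω} (h : S.R x y z) : S.line x z = S.line x y := by
  ext w
  rw [S.mem_line, S.mem_line]
  exact or_congr_right ⟨fun h' => S.trans h h', fun h' => S.trans (S.symm h) h'⟩

theorem rel_of_line_eq {x y z : Ω} (hz : z ≠ x) (h : S.line x z = S.line x y) : S.R x y z :=
  (S.mem_line.mp (h ▸ S.right_mem_line hz)).resolve_left hz

theorem smul_line (g : G) (x y : Ω) : g • S.line x y = S.line (g • x) (g • y) := by
  ext w
  rw [← Finset.inv_smul_mem_iff, S.mem_line, S.mem_line, inv_smul_eq_iff,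
    ← S.smul_iff g (z := g⁻¹ • w), smul_inv_smul]

/-- Lines seen from both ends differ. -/
theorem line_ne {x y : Ω} (hxy : x ≠ y) : S.line x y ≠ S.line y x := by
  intro h
  have hall : ∀ u v : Ω, u ≠ v → S.line u v = S.line v u := fun u v huv => by
    obtain ⟨g, rfl, rfl⟩ := S.exists_pair hxy huv
    rw [← S.smul_line, ← S.smul_line, h]
  refine no_design S.prime S.card S.line
    (fun u v huv => ⟨S.left_mem_line u v, S.right_mem_line huv.symm⟩)
    (fun u v huv => S.card_line huv.symm) fun u v w z huv hwz hw hz => ?_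
  by_cases hwu : w = u
  · subst hwu
    exact S.line_eq ((S.mem_line.mp hz).resolve_left hwz.symm)
  have hwl : S.line w u = S.line u v := by
    rw [hall w u hwu]
    exact S.line_eq ((S.mem_line.mp hw).resolve_left hwu)
  by_cases hzu : z = u
  · rw [hzu]; exact hwl
  rw [← hwl]
  refine S.line_eq ((S.mem_line.mp (hwl ▸ hz)).resolve_left hwz.symm)

/-- The elements fixing `x` and every class around it. -/
def K (x : Ω) : Subgroup G where
  carrier := {g | g • x = x ∧ ∀ y, y ≠ x → S.R x y (g • y)}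
  one_mem' := ⟨one_smul G x, fun y hy => by rw [one_smul]; exact S.refl hy⟩
  mul_mem' := fun {g h} hg hh => ⟨by rw [mul_smul, hh.1, hg.1], fun y hy => by
    rw [mul_smul]; exact S.trans (hh.2 y hy) (hg.2 _ (S.ne_right (hh.2 y hy)))⟩
  inv_mem' := fun {g} hg => ⟨by rw [inv_smul_eq_iff, hg.1], fun y hy => by
    have hy' : g⁻¹ • y ≠ x := fun e => hy (by rw [inv_smul_eq_iff] at e; rw [e, hg.1])
    have h := S.symm (hg.2 _ hy')
    rwa [smul_inv_smul] at h⟩

theorem mem_K {x : Ω} {g : G} : g ∈ S.K x ↔ g • x = x ∧ ∀ y, y ≠ x → S.R x y (g • y) := Iff.rfl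

theorem K_le (x : Ω) : S.K x ≤ stabilizer G x := fun _ h => h.1

theorem conj_mem_K {x : Ω} {k : G} (hk : k ∈ S.K x) (g : G) : g * k * g⁻¹ ∈ S.K (g • x) := by
  refine ⟨by rw [mul_smul, mul_smul, inv_smul_smul, hk.1], fun y hy => ?_⟩
  have hy' : g⁻¹ • y ≠ x := fun e => hy (by rw [inv_smul_eq_iff] at e; exact e)
  have h := S.smul g (hk.2 _ hy')
  rw [smul_inv_smul] at h
  rwa [mul_smul, mul_smul]

theorem conj_mem_K_stab {x : Ω} {k g : G} (hg : g • x = x) (hk : k ∈ S.K x) :
    g * k * g⁻¹ ∈ S.K x := by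
  simpa only [hg] using S.conj_mem_K hk g

theorem smul_line_of_mem_K {x y : Ω} (hy : y ≠ x) {g : G} (hg : g ∈ S.K x) :
    g • S.line x y = S.line x y := by
  rw [S.smul_line, hg.1, S.line_eq (hg.2 y hy)]

/-- The elements of `K x` fixing `y`. -/
def L (x y : Ω) : Subgroup G := S.K x ⊓ stabilizer G y

theorem mem_L {x y : Ω} {g : G} : g ∈ S.L x y ↔ g ∈ S.K x ∧ g • y = y := Iff.rfl

theorem conj_mem_L {x y : Ω} {l : G} (hl : l ∈ S.L x y) (g : G) :
    g * l * g⁻¹ ∈ S.L (g • x) (g • y) :=
  ⟨S.conj_mem_K hl.1 g, show (g * l * g⁻¹) • g • y = g • y by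
    rw [mul_smul, mul_smul, inv_smul_smul, hl.2]⟩

theorem conj_inv_mem_L {x y : Ω} {g l : G} (hl : l ∈ S.L (g • x) (g • y)) :
    g⁻¹ * l * g ∈ S.L x y := by
  simpa using S.conj_mem_L hl g⁻¹

theorem card_L [Finite G] {a b x y : Ω} (hab : a ≠ b) (hxy : x ≠ y) :
    Nat.card (S.L x y) = Nat.card (S.L a b) := by
  obtain ⟨g, rfl, rfl⟩ := S.exists_pair hab hxy
  exact Nat.card_congr
    { toFun := fun l => ⟨g⁻¹ * l * g, S.conj_inv_mem_L l.2⟩
      invFun := fun l => ⟨g * l * g⁻¹, S.conj_mem_L l.2 g⟩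
      left_inv := fun l => Subtype.ext (by simp [mul_assoc])
      right_inv := fun l => Subtype.ext (by simp [mul_assoc]) }

theorem L_eq_of_le [Finite G] {a b x y : Ω} (hab : a ≠ b) (hxy : x ≠ y) (h : S.L a b ≤ S.L x y) :
    S.L x y = S.L a b :=
  (Subgroup.eq_of_le_of_card_ge h (S.card_L hab hxy).le).symm

/-- The lines around `a`. -/
noncomputable def lines (a : Ω) : Finset (Finset Ω) :=
  ((Finset.univ : Finset Ω).erase a).image (S.line a)

theorem line_mem_lines {a y : Ω} (hy : y ≠ a) : S.line a y ∈ S.lines a :=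
  Finset.mem_image_of_mem _ (Finset.mem_erase.mpr ⟨hy, Finset.mem_univ y⟩)

theorem exists_of_mem_lines {a : Ω} {D : Finset Ω} (h : D ∈ S.lines a) :
    ∃ y, y ≠ a ∧ S.line a y = D := by
  obtain ⟨y, hy, rfl⟩ := Finset.mem_image.mp h
  exact ⟨y, (Finset.mem_erase.mp hy).1, rfl⟩

theorem card_lines (a : Ω) : (S.lines a).card = p := by
  have h := Finset.card_eq_sum_card_image (S.line a) ((Finset.univ : Finset Ω).erase a)
  have hfib : ∀ D ∈ S.lines a,
      (((Finset.univ : Finset Ω).erase a).filter fun z => S.line a z = D).card = p := by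
    intro D hD
    obtain ⟨y, hy, rfl⟩ := S.exists_of_mem_lines hD
    refine Eq.trans ?_ (S.class_card hy)
    congr 1
    ext z
    simp only [Finset.mem_filter, Finset.mem_erase, Finset.mem_univ, and_true, true_and]
    exact ⟨fun h => S.rel_of_line_eq h.1 h.2, fun h => ⟨S.ne_right h, S.line_eq h⟩⟩
  rw [Finset.card_erase_of_mem (Finset.mem_univ a), Finset.card_univ, S.card,
    Nat.add_sub_cancel] at h
  unfold lines at hfib ⊢
  rw [Finset.sum_congr rfl hfib, Finset.sum_const, smul_eq_mul, pow_two] at h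
  exact (Nat.eq_of_mul_eq_mul_right S.prime.pos h).symm

theorem smul_mem_lines {a : Ω} {g : G} (hg : g • a = a) {D : Finset Ω} (hD : D ∈ S.lines a) :
    g • D ∈ S.lines a := by
  obtain ⟨y, hy, rfl⟩ := S.exists_of_mem_lines hD
  rw [S.smul_line, hg]
  exact S.line_mem_lines fun e => hy (smul_left_cancel g (e.trans hg.symm))

theorem mem_K_of_lines {a : Ω} {g : G} (hg : g • a = a) (h : ∀ D ∈ S.lines a, g • D = D) :
    g ∈ S.K a := by
  refine ⟨hg, fun y hy => ?_⟩
  have hgy : g • y ≠ a := fun e => hy (smul_left_cancel g (e.trans hg.symm))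
  refine S.rel_of_line_eq hgy ?_
  conv_rhs => rw [← h _ (S.line_mem_lines hy), S.smul_line, hg]

theorem rel_iff_line_fixed {a y : Ω} {g : G} (hg : g • a = a) (hy : y ≠ a) :
    g • S.line a y = S.line a y ↔ S.R a y (g • y) := by
  rw [S.smul_line, hg]
  exact ⟨fun h => S.rel_of_line_eq (fun e => hy (smul_left_cancel g (e.trans hg.symm))) h,
    fun h => S.line_eq h⟩

end Setting

end CfsgLib.SquareDegree
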