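import Mathlib.GroupTheory.SpecificGroups.Alternating.Simple
import Mathlib.GroupTheory.SpecificGroups.Alternating
import Mathlib.GroupTheory.GroupAction.Quotient
import Mathlib.GroupTheory.GroupAction.Blocks
import Mathlib.Tactic

/-!
Subgroups of order forty in the symmetric group of degree five do not exist.
-/

set_option autoImplicit false

namespace CfsgLib.SquareDegree

open MulAction

variable {Ω : Type*} [Fintype Ω] [DecidableEq Ω]

theorem card_ne_forty (hΩ : Fintype.card Ω = 5) (H : Subgroup (Equiv.Perm Ω)) :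
    Nat.card H ≠ 40 := by
  intro h
  haveI := alternatingGroup.isSimpleGroup (show 5 ≤ Nat.card Ω by
    rw [Nat.card_eq_fintype_card, hΩ])
  have hidx : H.index = 3 := by
    have := H.index_mul_card
    rw [h, Nat.card_perm, Nat.card_eq_fintype_card, hΩ] at this
    norm_num [Nat.factorial] at this
    omega
  have hA : Nat.card (alternatingGroup Ω) = 60 := by
    have : Nontrivial Ω := Fintype.one_lt_card_iff_nontrivial.mp (by omega)
    rw [nat_card_alternatingGroup, Nat.card_eq_fintype_card, hΩ]
    rfl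
  let f : alternatingGroup Ω →* Equiv.Perm (Equiv.Perm Ω ⧸ H) :=
    (MulAction.toPermHom (Equiv.Perm Ω) (Equiv.Perm Ω ⧸ H)).comp (alternatingGroup Ω).subtype
  rcases f.normal_ker.eq_bot_or_eq_top with hk | hk
  · have := Nat.card_le_card_of_injective f ((MonoidHom.ker_eq_bot_iff f).mp hk)
    rw [hA, Nat.card_perm, ← Subgroup.index_eq_card, hidx] at this
    norm_num [Nat.factorial] at this
  · have hle : alternatingGroup Ω ≤ H := by
      intro g hg
      have h1 : f ⟨g, hg⟩ = 1 := MonoidHom.mem_ker.mp (hk ▸ Subgroup.mem_top _)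
      have h2 := congrArg (fun σ : Equiv.Perm (Equiv.Perm Ω ⧸ H) => σ ((1 : Equiv.Perm Ω) : Equiv.Perm Ω ⧸ H)) h1
      change ((g * 1 : Equiv.Perm Ω) : Equiv.Perm Ω ⧸ H) = ((1 : Equiv.Perm Ω) : Equiv.Perm Ω ⧸ H) at h2
      rw [mul_one, eq_comm, QuotientGroup.eq, inv_one, one_mul] at h2
      exact h2
    have := Subgroup.card_dvd_of_le hle
    rw [hA, h] at this
    norm_num at this

end CfsgLib.SquareDegree
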