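import Cfsg.Agent.Lib.PermGroup.SquareDegree.Setting
import Mathlib.GroupTheory.Sylow

/-!
In a doubly transitive group of degree `p² + 1` with classes around each point, the prime `p` does
not divide the order of a two-point stabiliser; the classes are orbits of a central kind of subgroup.
-/

set_option autoImplicit false

namespace CfsgLib.SquareDegree.Setting

open MulAction
open scoped Classical Pointwise

variable {G Ω : Type*} [Group G] [MulAction G Ω] [Fintype Ω] {p : ℕ} (S : Setting G Ω p)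

omit [Fintype Ω] in
theorem card_eq_orbit_mul (P : Subgroup G) (b : Ω) :
    Nat.card P = (orbit P b).ncard * Nat.card (P ⊓ stabilizer G b : Subgroup G) := by
  have h : Nat.card (stabilizer P b) = Nat.card (P ⊓ stabilizer G b : Subgroup G) :=
    Nat.card_congr
      { toFun := fun g => ⟨(g.1 : G), g.1.2, g.2⟩
        invFun := fun g => ⟨⟨(g : G), g.2.1⟩, g.2.2⟩
        left_inv := fun g => rfl
        right_inv := fun g => rfl }
  rw [← Nat.card_congr (orbitProdStabilizerEquivGroup P b), Nat.card_prod, h, Nat.card_coe_set_eq]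

include S in
theorem ncard_compl_singleton (a : Ω) : ({a}ᶜ : Set Ω).ncard = p ^ 2 := by
  rw [Set.ncard_compl, Set.ncard_singleton, Nat.card_eq_fintype_card, S.card, Nat.add_sub_cancel]

include S in
theorem card_stab [Finite G] {a b : Ω} (hab : a ≠ b) :
    Nat.card (stabilizer G a) = p ^ 2 * Nat.card (stabilizer G a ⊓ stabilizer G b : Subgroup G) := by
  rw [card_eq_orbit_mul (stabilizer G a) b]
  congr 1
  rw [← S.ncard_compl_singleton a]
  congr 1
  ext x
  constructor
  · rintro ⟨g, rfl⟩ e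
    exact hab (smul_left_cancel (g : G) (g.2.trans (Set.mem_singleton_iff.mp e).symm))
  · intro hx
    obtain ⟨g, hga, hgb⟩ := S.exists_pair hab (Ne.symm hx)
    exact ⟨⟨g, hga⟩, hgb⟩

variable [Finite G]

include S in
/-- A `p`-group fixing two points fixes all classes around the first, and the class of the
second pointwise. -/
theorem pgroup_fixes {a b : Ω} (hab : a ≠ b) {Q : Subgroup G} (hQ : IsPGroup p Q)
    (hQa : ∀ g ∈ Q, g • a = a) (hQb : ∀ g ∈ Q, g • b = b) :
    Q ≤ S.K a ∧ ∀ g ∈ Q, ∀ z ∈ S.line a b, g • z = z := by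
  haveI := Fact.mk S.prime
  have hp := S.prime.one_lt
  have hba : b ∈ S.line a b := S.right_mem_line hab.symm
  have hline : ∀ g ∈ Q, g • S.line a b = S.line a b := fun g hg => by
    rw [S.smul_line, hQa g hg, hQb g hg]
  refine ⟨fun g hg => S.mem_K_of_lines (hQa g hg) fun D hD => ?_, fun g hg z hz => ?_⟩
  · by_cases hD' : D = S.line a b
    · rw [hD', hline g hg]
    · refine fixes_small hQ ((S.lines a).erase (S.line a b)) (fun k hk E hE => ?_) ?_ g hg D
        (Finset.mem_erase.mpr ⟨hD', hD⟩)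
      · obtain ⟨h1, h2⟩ := Finset.mem_erase.mp hE
        exact Finset.mem_erase.mpr ⟨fun e => h1 (smul_left_cancel k (e.trans (hline k hk).symm)),
          S.smul_mem_lines (hQa k hk) h2⟩
      · rw [Finset.card_erase_of_mem (S.line_mem_lines hab.symm), S.card_lines]
        omega
  · by_cases hza : z = a
    · rw [hza, hQa g hg]
    by_cases hzb : z = b
    · rw [hzb, hQb g hg]
    refine fixes_small hQ (((S.line a b).erase a).erase b) (fun k hk x hx => ?_) ?_ g hg z
      (by simp [hza, hzb, hz])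
    · simp only [Finset.mem_erase] at hx ⊢
      refine ⟨fun e => hx.1 (smul_left_cancel k (e.trans (hQb k hk).symm)),
        fun e => hx.2.1 (smul_left_cancel k (e.trans (hQa k hk).symm)), ?_⟩
      rw [← hline k hk]
      exact Finset.smul_mem_smul_finset hx.2.2
    · rw [Finset.card_erase_of_mem (Finset.mem_erase.mpr ⟨hab.symm, hba⟩),
        Finset.card_erase_of_mem (S.left_mem_line a b), S.card_line hab.symm]
      omega

/-- A Sylow `p`-subgroup of the stabiliser of `a`. -/
def IsFull (_S : Setting G Ω p) (a : Ω) (P : Subgroup G) : Prop :=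
  P ≤ stabilizer G a ∧ IsPGroup p P ∧
    Nat.card P = p ^ (Nat.card (stabilizer G a)).factorization p

theorem exists_full (a : Ω) {Q : Subgroup G} (hQ : IsPGroup p Q) (hQa : Q ≤ stabilizer G a) :
    ∃ P, S.IsFull a P ∧ Q ≤ P := by
  haveI := Fact.mk S.prime
  have hQ' : IsPGroup p (Q.subgroupOf (stabilizer G a)) :=
    hQ.of_equiv (Subgroup.subgroupOfEquivOfLe hQa).symm
  obtain ⟨P, hP⟩ := hQ'.exists_le_sylow
  refine ⟨(P : Subgroup (stabilizer G a)).map (stabilizer G a).subtype,
    ⟨Subgroup.map_subtype_le _, P.2.map _, ?_⟩, fun g hg => ?_⟩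
  · rw [Subgroup.card_map_of_injective Subtype.val_injective]
    exact P.card_eq_multiplicity
  · exact ⟨⟨g, hQa hg⟩, hP hg, rfl⟩

theorem full_data {a b : Ω} (hab : a ≠ b) {P : Subgroup G} (hP : S.IsFull a P) :
    (∀ y, y ≠ a → ∃ g ∈ P, g • b = y) ∧
      Nat.card (P ⊓ stabilizer G b : Subgroup G) =
        p ^ (Nat.card (stabilizer G a ⊓ stabilizer G b : Subgroup G)).factorization p := by
  haveI := Fact.mk S.prime
  have hp := S.prime.two_le
  set E : Subgroup G := stabilizer G a ⊓ stabilizer G b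
  obtain ⟨j, hj⟩ := IsPGroup.iff_card.mp (hP.2.1.to_le (inf_le_left : P ⊓ stabilizer G b ≤ P))
  obtain ⟨i, hi⟩ := hP.2.1.card_orbit b
  rw [Nat.card_coe_set_eq] at hi
  have hsub : orbit P b ⊆ ({a}ᶜ : Set Ω) := by
    rintro _ ⟨g, rfl⟩ e
    exact hab (smul_left_cancel (g : G) ((hP.1 g.2).trans (Set.mem_singleton_iff.mp e).symm))
  have h1 : p ^ i ≤ p ^ 2 := by
    rw [← hi, ← S.ncard_compl_singleton a]
    exact Set.ncard_le_ncard hsub
  have hi2 : i ≤ 2 := (Nat.pow_le_pow_iff_right (by omega)).mp h1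
  have hje : j ≤ (Nat.card E).factorization p := by
    rw [← S.prime.pow_dvd_iff_le_factorization Nat.card_pos.ne', ← hj]
    exact Subgroup.card_dvd_of_le (inf_le_inf_right _ hP.1)
  have hsum : i + j = 2 + (Nat.card E).factorization p := by
    have h := card_eq_orbit_mul P b
    rw [hP.2.2, hi, hj, ← pow_add, S.card_stab hab, Nat.factorization_mul (pow_ne_zero 2 S.prime.ne_zero)
      Nat.card_pos.ne', S.prime.factorization_pow, Finsupp.coe_add, Pi.add_apply,
      Finsupp.single_eq_same] at h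
    exact (Nat.pow_right_injective hp h).symm
  refine ⟨fun y hy => ?_, ?_⟩
  · have : orbit P b = ({a}ᶜ : Set Ω) := by
      refine Set.eq_of_subset_of_ncard_le hsub ?_
      rw [S.ncard_compl_singleton, hi]
      exact Nat.pow_le_pow_right S.prime.pos (by omega)
    obtain ⟨g, hg⟩ : y ∈ orbit P b := this ▸ hy
    exact ⟨g, g.2, hg⟩
  · rw [hj]
    congr 1
    omega

/-- A non-trivial two-point part of a Sylow subgroup fixes exactly one line. -/
theorem fix_full {a b : Ω} (hab : a ≠ b) {P : Subgroup G} (hP : S.IsFull a P)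
    (hne : P ⊓ stabilizer G b ≠ ⊥) (z : Ω) :
    (∀ g ∈ P ⊓ stabilizer G b, g • z = z) ↔ z ∈ S.line a b := by
  haveI := Fact.mk S.prime
  haveI := S.faith
  set Q := P ⊓ stabilizer G b with hQ
  have hQp : IsPGroup p Q := hP.2.1.to_le inf_le_left
  constructor
  swap
  · intro hz g hg
    exact (S.pgroup_fixes hab hQp (fun k hk => hP.1 hk.1) (fun k hk => hk.2)).2 g hg z hz
  intro hfix
  by_contra hz
  have hza : z ≠ a := fun e => hz (e ▸ S.left_mem_line a b)
  obtain ⟨y, hy, hyb⟩ := (S.full_data hab hP).1 z hza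
  have hQz : Q = P ⊓ stabilizer G z := by
    refine Subgroup.eq_of_le_of_card_ge (fun g hg => ⟨hg.1, hfix g hg⟩) (le_of_eq ?_)
    refine Nat.card_congr
      { toFun := fun g => ⟨y⁻¹ * g * y, P.mul_mem (P.mul_mem (P.inv_mem hy) g.2.1) hy, ?_⟩
        invFun := fun g => ⟨y * g * y⁻¹, P.mul_mem (P.mul_mem hy g.2.1) (P.inv_mem hy), ?_⟩
        left_inv := fun g => Subtype.ext (by simp [mul_assoc])
        right_inv := fun g => Subtype.ext (by simp [mul_assoc]) }
    · show (y⁻¹ * (g : G) * y) • b = b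
      rw [mul_smul, mul_smul, hyb, g.2.2, ← hyb, inv_smul_smul]
    · show (y * (g : G) * y⁻¹) • z = z
      rw [mul_smul, mul_smul, inv_smul_eq_iff.mpr hyb.symm, g.2.2, hyb]
  have hpow : ∀ j : ℕ, ∀ g ∈ Q, g • (y ^ j • b) = y ^ j • b := by
    intro j
    induction j with
    | zero => intro g hg; rw [pow_zero, one_smul]; exact hg.2
    | succ j ih =>
      intro g hg
      have hg' : y⁻¹ * g * y ∈ Q := by
        refine ⟨P.mul_mem (P.mul_mem (P.inv_mem hy) hg.1) hy, ?_⟩
        show (y⁻¹ * g * y) • b = b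
        rw [mul_smul, mul_smul, hyb, (hQz ▸ hg : g ∈ P ⊓ stabilizer G z).2, ← hyb, inv_smul_smul]
      have h := congrArg (y • ·) (ih _ hg')
      simp only [← mul_smul, ← mul_assoc, mul_inv_cancel, one_mul] at h
      rw [pow_succ', ← mul_smul, ← mul_assoc]
      exact h
  have hya : y • a = a := hP.1 hy
  have horb : ∀ D ∈ S.lines a, ∃ j : ℕ, y ^ j • S.line a b = D := by
    set C := Subgroup.zpowers y
    have hC : IsPGroup p C := hP.2.1.to_le (by rwa [Subgroup.zpowers_le])
    have hsub : orbit C (S.line a b) ⊆ (S.lines a : Set (Finset Ω)) := by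
      rintro _ ⟨c, rfl⟩
      exact S.smul_mem_lines (hP.1 ((Subgroup.zpowers_le.mpr hy) c.2)) (S.line_mem_lines hab.symm)
    have := (Set.toFinite (orbit C (S.line a b))).to_subtype
    obtain ⟨n, hn⟩ := hC.card_orbit (S.line a b)
    rw [Nat.card_coe_set_eq] at hn
    have hn0 : n ≠ 0 := by
      rintro rfl
      rw [pow_zero, Set.ncard_eq_one] at hn
      obtain ⟨D, hD⟩ := hn
      have h1 : y • S.line a b ∈ ({D} : Set (Finset Ω)) :=
        hD ▸ ⟨⟨y, Subgroup.mem_zpowers y⟩, rfl⟩
      have h2 : S.line a b ∈ ({D} : Set (Finset Ω)) := hD ▸ mem_orbit_self (S.line a b)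
      rw [Set.mem_singleton_iff] at h1 h2
      rw [← h2, S.smul_line, hya, hyb] at h1
      exact hz (h1 ▸ S.right_mem_line hza)
    have heq : orbit C (S.line a b) = (S.lines a : Set (Finset Ω)) := by
      refine Set.eq_of_subset_of_ncard_le hsub ?_ (Finset.finite_toSet _)
      rw [Set.ncard_coe_finset, S.card_lines, hn]
      exact Nat.le_self_pow hn0 p
    intro D hD
    obtain ⟨⟨c, hc⟩, hcD⟩ : D ∈ orbit C (S.line a b) := heq ▸ hD
    obtain ⟨j, rfl⟩ := mem_powers_iff_mem_zpowers.mpr hc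
    exact ⟨j, hcD⟩
  refine hne ((Subgroup.eq_bot_iff_forall _).mpr fun g hg => eq_of_smul_eq_smul (α := Ω) fun w => ?_)
  rw [one_smul]
  by_cases hwa : w = a
  · rw [hwa]; exact hP.1 hg.1
  obtain ⟨j, hj⟩ := horb _ (S.line_mem_lines hwa)
  rw [S.smul_line, show y ^ j • a = a from pow_mem (hP.1 hy) j] at hj
  have hne' : y ^ j • b ≠ a := fun e => hab (smul_left_cancel (y ^ j)
    ((show y ^ j • a = a from pow_mem (hP.1 hy) j).trans e.symm))
  exact (S.pgroup_fixes (Ne.symm hne') hQp (fun k hk => hP.1 hk.1) (hpow j)).2 g hg w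
    (hj ▸ S.right_mem_line hwa)

include S in
theorem not_dvd {a b : Ω} (hab : a ≠ b) :
    ¬ p ∣ Nat.card (stabilizer G a ⊓ stabilizer G b : Subgroup G) := by
  haveI := Fact.mk S.prime
  intro hdvd
  obtain ⟨P, hP, -⟩ := S.exists_full a (IsPGroup.of_bot (G := G)) bot_le
  set Q := P ⊓ stabilizer G b with hQ
  have hQc := (S.full_data hab hP).2
  have hQne : Q ≠ ⊥ := by
    intro e
    rw [show P ⊓ stabilizer G b = ⊥ from e, Subgroup.card_bot] at hQc
    exact (Nat.one_lt_pow (S.prime.factorization_pos_of_dvd Nat.card_pos.ne' hdvd).ne'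
      S.prime.one_lt).ne hQc
  obtain ⟨P', hP', hle⟩ := S.exists_full b (hP.2.1.to_le (inf_le_left : Q ≤ P)) inf_le_right
  have heq : Q = P' ⊓ stabilizer G a := by
    refine Subgroup.eq_of_le_of_card_ge (fun g hg => ⟨hle hg, hP.1 hg.1⟩) ?_
    rw [hQc, (S.full_data hab.symm hP').2, inf_comm (stabilizer G b)]
  refine S.line_ne hab (Finset.ext fun z => ?_)
  rw [← S.fix_full hab hP hQne, ← S.fix_full hab.symm hP' (heq ▸ hQne), ← hQ, ← heq]

include S in
theorem pelem_eq_one {a y : Ω} (hay : a ≠ y) {g : G} (ha : g • a = a) (hy : g • y = y)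
    {k : ℕ} (hk : g ^ p ^ k = 1) : g = 1 := by
  rw [← orderOf_eq_one_iff]
  refine Nat.eq_one_of_dvd_coprimes
    (Nat.Coprime.pow_left k (S.prime.coprime_iff_not_dvd.mpr (S.not_dvd hay)))
    (orderOf_dvd_of_pow_eq_one hk) ?_
  have hmem : g ∈ stabilizer G a ⊓ stabilizer G y := ⟨ha, hy⟩
  rw [← Subgroup.orderOf_mk g hmem]
  exact orderOf_dvd_natCard _

/-- The regular abelian Sylow subgroup and the part of it fixing all classes. -/
theorem exists_abelian (a : Ω) : ∃ P Z : Subgroup G, P ≤ stabilizer G a ∧ IsMulCommutative P ∧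
    Nat.card P = p ^ 2 ∧ (∀ x y, x ≠ a → y ≠ a → ∃ g ∈ P, g • x = y) ∧ Z ≤ P ∧ Z ≤ S.K a ∧
    (∀ x y, S.R a x y → ∃ u ∈ Z, u • x = y) ∧
    ∀ u ∈ P, ∀ x, x ≠ a → u • x = x → u = 1 := by
  haveI := Fact.mk S.prime
  haveI := S.faith
  obtain ⟨P, hP, -⟩ := S.exists_full a (IsPGroup.of_bot (G := G)) bot_le
  obtain ⟨b, hb⟩ : ∃ b, b ≠ a := Fintype.exists_ne_of_one_lt_card
    (by rw [S.card]; nlinarith [S.prime.two_le]) a
  have hfree : ∀ u ∈ P, ∀ x, x ≠ a → u • x = x → u = 1 := by
    intro u hu x hx hux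
    obtain ⟨k, hk⟩ := hP.2.1 ⟨u, hu⟩
    exact S.pelem_eq_one hx.symm (hP.1 hu) hux (k := k) (by simpa using congrArg Subtype.val hk)
  have hst : ∀ x, x ≠ a → Nat.card (P ⊓ stabilizer G x : Subgroup G) = 1 := fun x hx => by
    rw [Subgroup.card_eq_one, Subgroup.eq_bot_iff_forall]
    exact fun u hu => hfree u hu.1 x hx hu.2
  have hcard : Nat.card P = p ^ 2 := by
    rw [hP.2.2, S.card_stab hb.symm, Nat.factorization_mul (pow_ne_zero 2 S.prime.ne_zero)
      Nat.card_pos.ne', S.prime.factorization_pow, Finsupp.coe_add, Pi.add_apply,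
      Finsupp.single_eq_same, Nat.factorization_eq_zero_of_not_dvd (S.not_dvd hb.symm), add_zero]
  have htr : ∀ x y, x ≠ a → y ≠ a → ∃ g ∈ P, g • x = y := fun x y hx hy =>
    (S.full_data hx.symm hP).1 y hy
  refine ⟨P, P ⊓ S.K a, hP.1, IsPGroup.isMulCommutative_of_card_eq_prime_sq hcard, hcard, htr,
    inf_le_left, inf_le_right, ?_, hfree⟩
  have hZp : IsPGroup p (P ⊓ S.K a : Subgroup G) := hP.2.1.to_le inf_le_left
  -- the part fixing the line of `b` setwise lies in `K a`
  set PD := P ⊓ stabilizer G (S.line a b) with hPD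
  have hPD_le : PD ≤ P ⊓ S.K a := by
    intro g hg
    refine ⟨hg.1, S.mem_K_of_lines (hP.1 hg.1) fun D hD => ?_⟩
    by_cases hD' : D = S.line a b
    · rw [hD']; exact hg.2
    refine fixes_small (Q := PD) (hP.2.1.to_le inf_le_left) ((S.lines a).erase (S.line a b))
      (fun k hk E hE => ?_) ?_ g hg D (Finset.mem_erase.mpr ⟨hD', hD⟩)
    · obtain ⟨h1, h2⟩ := Finset.mem_erase.mp hE
      exact Finset.mem_erase.mpr ⟨fun e => h1 (smul_left_cancel k (e.trans
        (show k • S.line a b = S.line a b from hk.2).symm)), S.smul_mem_lines (hP.1 hk.1) h2⟩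
    · rw [Finset.card_erase_of_mem (S.line_mem_lines hb), S.card_lines]
      have := S.prime.one_lt
      omega
  have hne : 1 < Nat.card (P ⊓ S.K a : Subgroup G) := by
    refine lt_of_lt_of_le ?_ (Subgroup.card_le_of_le hPD_le)
    have h := card_eq_orbit_mul P (S.line a b)
    rw [hcard] at h
    have hle : (orbit P (S.line a b)).ncard ≤ p := by
      refine le_trans ?_ (S.card_lines a).le
      rw [← Set.ncard_coe_finset]
      refine Set.ncard_le_ncard ?_ (Finset.finite_toSet _)
      rintro _ ⟨g, rfl⟩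
      exact S.smul_mem_lines (hP.1 g.2) (S.line_mem_lines hb)
    by_contra hcon
    have h1 : Nat.card PD = 1 := by
      have : 0 < Nat.card PD := Nat.card_pos
      omega
    rw [← hPD, h1, mul_one] at h
    nlinarith [S.prime.two_le]
  intro x y hxy
  have hx : x ≠ a := S.ne_left hxy
  have h := card_eq_orbit_mul (P ⊓ S.K a) x
  have h1 : Nat.card ((P ⊓ S.K a) ⊓ stabilizer G x : Subgroup G) = 1 := by
    rw [Subgroup.card_eq_one, Subgroup.eq_bot_iff_forall]
    exact fun u hu => hfree u hu.1.1 x hx hu.2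
  rw [h1, mul_one] at h
  obtain ⟨i, hi⟩ := IsPGroup.iff_card.mp hZp
  have hi0 : i ≠ 0 := by rintro rfl; rw [pow_zero] at hi; omega
  have heq : orbit (P ⊓ S.K a : Subgroup G) x
      = ((Finset.univ.filter fun z => S.R a x z : Finset Ω) : Set Ω) := by
    refine Set.eq_of_subset_of_ncard_le ?_ ?_ (Finset.finite_toSet _)
    · rintro _ ⟨u, rfl⟩
      exact Finset.mem_coe.mpr (Finset.mem_filter.mpr ⟨Finset.mem_univ _, u.2.2.2 x hx⟩)
    · rw [Set.ncard_coe_finset, S.class_card hx, ← h, hi]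
      exact Nat.le_self_pow hi0 p
  obtain ⟨u, hu⟩ : y ∈ orbit (P ⊓ S.K a : Subgroup G) x := by
    rw [heq]; exact Finset.mem_coe.mpr (Finset.mem_filter.mpr ⟨Finset.mem_univ _, hxy⟩)
  exact ⟨u, u.2, hu⟩

end CfsgLib.SquareDegree.Setting
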