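import Cfsg.Agent.Lib.PermGroup.SquareDegree.Kernel
import Mathlib.GroupTheory.Perm.Cycle.Type

/-!
An element fixing two points and all classes around the first of them is trivial.
-/

set_option autoImplicit false

namespace CfsgLib.SquareDegree.Setting

open MulAction
open scoped Classical Pointwise

variable {G Ω : Type*} [Group G] [MulAction G Ω] [Fintype Ω] [Finite G] {p : ℕ}
  (S : Setting G Ω p)

include S in
theorem eq_one_of_fix_all {a : Ω} {g : G} (h : ∀ z : Ω, g • z = z) : g = 1 := by
  haveI := S.faith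
  exact eq_of_smul_eq_smul (α := Ω) fun z => by rw [one_smul]; exact h z

omit [Finite G] in
theorem smul_mem_line {a b z : Ω} {g : G} (hga : g • a = a) (hgb : g • b = b)
    (h : z ∈ S.line a b) : g • z ∈ S.line a b := by
  have := Finset.smul_mem_smul_finset (a := g) h
  rwa [S.smul_line, hga, hgb] at this

omit [Finite G] in
theorem smul_mem_line_iff {a b z : Ω} {g : G} (hga : g • a = a) (hgb : g • b = b) :
    g • z ∈ S.line a b ↔ z ∈ S.line a b :=
  ⟨fun h => by
    simpa using S.smul_mem_line (g := g⁻¹) (by rw [inv_smul_eq_iff, hga])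
      (by rw [inv_smul_eq_iff, hgb]) h, S.smul_mem_line hga hgb⟩

omit [Finite G] in
theorem card_rest {a b : Ω} (hab : a ≠ b) :
    (((S.line b a).erase a).erase b).card = p - 1 := by
  rw [Finset.card_erase_of_mem (Finset.mem_erase.mpr ⟨hab.symm, S.left_mem_line b a⟩),
    Finset.card_erase_of_mem (S.right_mem_line hab), S.card_line hab]
  omega

include S in
/-- In the transitive case the line seen from `b` is a transversal of the other classes at `a`. -/
theorem trans_meet {a b : Ω} (hab : a ≠ b) (hT : S.Trans a b) :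
    (∀ z ∈ S.line b a, z ∈ S.line a b → z = a ∨ z = b) ∧
      (∀ y, y ∉ S.line a b → ∃ d ∈ S.line b a, S.R a y d) ∧
      ∀ d₁ ∈ S.line b a, ∀ d₂ ∈ S.line b a, d₁ ≠ a → d₁ ≠ b → S.R a d₁ d₂ → d₁ = d₂ := by
  obtain ⟨y₀, hy₀, hy₀'⟩ : ∃ y, y ∈ S.line b a ∧ y ∉ S.line a b := by
    by_contra h
    simp only [not_exists, not_and, not_not] at h
    exact S.line_ne hab (Finset.eq_of_subset_of_card_le h
      (by rw [S.card_line hab, S.card_line hab.symm])).symm
  have hmeet : ∀ y, y ∉ S.line a b → ∃ d ∈ S.line b a, d ∉ S.line a b ∧ S.R a y d := by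
    intro y hy
    obtain ⟨g, hga, hgb, hR⟩ := hT y₀ y hy₀' hy
    exact ⟨g • y₀, S.smul_mem_line hgb hga hy₀,
      fun h => hy₀' ((S.smul_mem_line_iff hga hgb).mp h), S.symm hR⟩
  set O := ((S.line b a).erase a).erase b with hO
  set O' := O.filter fun z => z ∉ S.line a b with hO'
  have hsub : (S.lines a).erase (S.line a b) ⊆ O'.image (S.line a) := by
    intro D hD
    obtain ⟨hne, hD'⟩ := Finset.mem_erase.mp hD
    obtain ⟨y, hy, rfl⟩ := S.exists_of_mem_lines hD'
    obtain ⟨d, hd, hd', hR⟩ := hmeet y fun h =>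
      hne (S.line_eq ((S.mem_line.mp h).resolve_left hy))
    refine Finset.mem_image.mpr ⟨d, ?_, S.line_eq hR⟩
    simp only [hO', hO, Finset.mem_filter, Finset.mem_erase]
    exact ⟨⟨fun e => hd' (by rw [e]; exact S.right_mem_line hab.symm),
      fun e => hd' (by rw [e]; exact S.left_mem_line a b), hd⟩, hd'⟩
  have h1 := Finset.card_le_card hsub
  rw [Finset.card_erase_of_mem (S.line_mem_lines hab.symm), S.card_lines] at h1
  have h2 : O'.card ≤ p - 1 := (Finset.card_filter_le _ _).trans (S.card_rest hab).le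
  have h3 : (O'.image (S.line a)).card ≤ O'.card := Finset.card_image_le
  have hOeq : O' = O := Finset.eq_of_subset_of_card_le (Finset.filter_subset _ _)
    (by rw [S.card_rest hab]; omega)
  have hinj : Set.InjOn (S.line a) (O' : Set Ω) := Finset.card_image_iff.mp (by omega)
  refine ⟨fun z hz hz' => ?_, fun y hy => ?_, fun d₁ hd₁ d₂ hd₂ h₁a h₁b hR => ?_⟩
  · by_contra hne
    simp only [not_or] at hne
    have : z ∈ O' := hOeq ▸ (by simp [hO, hne.1, hne.2, hz])
    exact (Finset.mem_filter.mp this).2 hz'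
  · obtain ⟨d, hd, -, hR⟩ := hmeet y hy
    exact ⟨d, hd, hR⟩
  · have hd₁O : d₁ ∈ O' := hOeq ▸ (by simp [hO, h₁a, h₁b, hd₁])
    have h₂a : d₂ ≠ a := S.ne_right hR
    have h₂b : d₂ ≠ b := by
      rintro rfl
      exact (Finset.mem_filter.mp hd₁O).2 (S.mem_line.mpr (Or.inr (S.symm hR)))
    have hd₂O : d₂ ∈ O' := hOeq ▸ (by simp [hO, h₂a, h₂b, hd₂])
    exact (hinj hd₁O hd₂O (S.line_eq hR).symm)

include S in
/-- The final step: a kernel fixing pointwise a transversal line. -/
theorem core_false {a b : Ω} (hab : a ≠ b) (hL : ∀ l ∈ S.L a b, ∀ z ∈ S.line b a, l • z = z)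
    (hR : ∀ z, S.R a b z → (∀ l ∈ S.L a b, l • z = z) → z = b)
    (hmeet : ∀ y, y ∉ S.line a b → ∃ d ∈ S.line b a, S.R a y d) : False := by
  have hLd : ∀ d ∈ S.line b a, d ≠ a → S.L a d = S.L a b := fun d hd hda =>
    S.L_eq_of_le hab (Ne.symm hda) fun l hl => ⟨hl.1, hL l hl d hd⟩
  obtain ⟨c, hc⟩ : (((S.line b a).erase a).erase b).Nonempty := by
    rw [← Finset.card_pos, S.card_rest hab]
    have := S.three_le
    omega
  simp only [Finset.mem_erase] at hc
  obtain ⟨hcb, hca, hc⟩ := hc
  have hexact : ∀ z, (∀ l ∈ S.L a b, l • z = z) → z ∈ S.line b a := by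
    intro z hz
    by_cases hza : z = a
    · rw [hza]; exact S.right_mem_line hab
    by_cases hzl : z ∈ S.line a b
    · rw [hR z ((S.mem_line.mp hzl).resolve_left hza) hz]; exact S.left_mem_line b a
    obtain ⟨d, hd, hRd⟩ := hmeet z hzl
    have hda : d ≠ a := S.ne_right hRd
    obtain ⟨g, hga, hgb⟩ := S.exists_pair hab (Ne.symm hda)
    have hR' : S.R a b (g⁻¹ • z) := by
      have := S.smul g⁻¹ (S.symm hRd)
      rwa [inv_smul_eq_iff.mpr hga.symm, inv_smul_eq_iff.mpr hgb.symm] at this
    have hfix : ∀ l ∈ S.L a b, l • g⁻¹ • z = g⁻¹ • z := by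
      intro l hl
      have h := S.conj_mem_L hl g
      rw [hga, hgb, hLd d hd hda] at h
      have h' := hz _ h
      rw [mul_smul, mul_smul] at h'
      exact eq_inv_smul_iff.mpr h'
    have := hR _ hR' hfix
    rw [inv_smul_eq_iff, hgb] at this
    rwa [this]
  obtain ⟨g, hga, hgb⟩ := S.exists_pair hab (Ne.symm hca)
  have hsub : S.line c a ⊆ S.line b a := by
    intro z hz
    refine hexact z fun l hl => ?_
    rw [← hgb, ← hga, ← S.smul_line, ← Finset.inv_smul_mem_iff] at hz
    have hl' : g⁻¹ * l * g ∈ S.L a b := S.conj_inv_mem_L (by rw [hga, hgb, hLd c hc hca]; exact hl)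
    have h := hL _ hl' _ hz
    rw [mul_smul, mul_smul, smul_inv_smul] at h
    exact smul_left_cancel g⁻¹ h
  have heq : S.line c a = S.line b a :=
    Finset.eq_of_subset_of_card_le hsub (by rw [S.card_line hca.symm, S.card_line hab])
  refine S.line_ne hcb ?_
  have hb : b ∈ S.line c a := heq ▸ S.left_mem_line b a
  rw [S.line_eq ((S.mem_line.mp hb).resolve_left (Ne.symm hcb)), heq,
    S.line_eq ((S.mem_line.mp hc).resolve_left hcb)]

include S in
theorem L_bot_of_trans (hT : ∀ a b : Ω, a ≠ b → S.Trans a b) {a b : Ω} (hab : a ≠ b) :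
    S.L a b = ⊥ := by
  obtain ⟨hdisj, hmeet, hinj⟩ := S.trans_meet hab (hT a b hab)
  obtain ⟨hdisj', -, hinj'⟩ := S.trans_meet hab.symm (hT b a hab.symm)
  have hL : ∀ l ∈ S.L a b, ∀ z ∈ S.line b a, l • z = z := by
    intro l hl z hz
    have hla : l • a = a := hl.1.1
    have hlb : l • b = b := hl.2
    by_cases hza : z = a
    · rw [hza, hla]
    by_cases hzb : z = b
    · rw [hzb, hlb]
    exact (hinj z hz (l • z) (S.smul_mem_line hlb hla hz) hza hzb (hl.1.2 z hza)).symm
  rw [Subgroup.eq_bot_iff_forall]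
  intro l hl
  by_contra hl1
  refine S.core_false hab hL (fun z hRz hz => ?_) hmeet
  by_contra hzb
  refine hl1 (S.faithful_class hab hl.1 fun z' hz' => ?_)
  by_cases h1 : z' = a
  · rw [h1]; exact hl.1.1
  by_cases h2 : z' = b
  · rw [h2]; exact hl.2
  have hza : z ≠ a := S.ne_right hRz
  have hzl : z ∈ S.line a b := S.mem_line.mpr (Or.inr hRz)
  have hzo : z ∉ S.line b a := fun h => (hdisj z h hzl).elim hza hzb
  have hzo' : z' ∉ S.line b a := fun h => (hdisj z' h hz').elim h1 h2
  obtain ⟨g, hgb, hga, hR⟩ := hT b a hab.symm z z' hzo hzo'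
  have hgz : g • z = z' := hinj' (g • z) (S.smul_mem_line hga hgb hzl) z' hz'
    (fun e => hzb (smul_left_cancel g (e.trans hgb.symm)))
    (fun e => hza (smul_left_cancel g (e.trans hga.symm))) hR
  have hl' : g⁻¹ * l * g ∈ S.L a b := S.conj_inv_mem_L (by rwa [hga, hgb])
  have h := hz _ hl'
  rw [mul_smul, mul_smul, hgz] at h
  exact (inv_smul_eq_iff.mp h).trans hgz

omit [Finite G] in
theorem le_of_prime_pow_le [Finite G] (H N : Subgroup G)
    (h : ∀ g ∈ H, (∃ r k : ℕ, r.Prime ∧ orderOf g = r ^ k) → g ∈ N) : H ≤ N := by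
  have hdvd : Nat.card H ∣ Nat.card (H ⊓ N : Subgroup G) := by
    rw [Nat.dvd_iff_prime_pow_dvd_dvd]
    intro r k hr hk
    haveI := Fact.mk hr
    obtain ⟨Q, hQ⟩ := Sylow.exists_subgroup_card_pow_prime r hk
    rw [← hQ, ← Subgroup.card_map_of_injective H.subtype_injective]
    refine Subgroup.card_dvd_of_le ?_
    rintro _ ⟨⟨g, hg⟩, hgQ, rfl⟩
    refine ⟨hg, h g hg ?_⟩
    obtain ⟨j, hj⟩ := IsPGroup.iff_orderOf.mp (IsPGroup.of_card hQ) ⟨⟨g, hg⟩, hgQ⟩
    refine ⟨r, j, hr, ?_⟩
    rw [Subgroup.orderOf_mk, Subgroup.orderOf_mk] at hj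
    exact hj
  have := Subgroup.eq_of_le_of_card_ge (inf_le_left : H ⊓ N ≤ H) (Nat.le_of_dvd Nat.card_pos hdvd)
  exact this ▸ inf_le_right

include S in
/-- Prime power elements of `L a b` fix a point in every class around `a`. -/
theorem exists_fixed_in_class {a b y : Ω} (hab : a ≠ b) {h : G} (hh : h ∈ S.L a b) {r k : ℕ}
    (hr : r.Prime) (ho : orderOf h = r ^ k) (hy : y ≠ a) : ∃ d, S.R a y d ∧ h • d = d := by
  haveI := Fact.mk hr
  by_cases hrp : r = p
  · subst hrp
    have : h = 1 := S.pelem_eq_one hab hh.1.1 hh.2 (k := k) (ho ▸ pow_orderOf_eq_one h)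
    exact ⟨y, S.refl hy, by rw [this, one_smul]⟩
  set D : Finset Ω := Finset.univ.filter fun z => S.R a y z with hD
  have hmaps : ∀ x, x ∈ D ↔ (MulAction.toPerm h) x ∈ D := by
    intro x
    simp only [hD, Finset.mem_filter, Finset.mem_univ, true_and, MulAction.toPerm_apply]
    constructor
    · exact fun hx => S.trans hx (hh.1.2 x (S.ne_right hx))
    · intro hx
      have hxa : x ≠ a := fun e => S.ne_right hx (by rw [e]; exact hh.1.1)
      exact S.trans hx (S.symm (hh.1.2 x hxa))
  set σ := (MulAction.toPerm h).subtypePerm (p := fun x => x ∈ D) fun x => (hmaps x).symm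
  have hσ : σ ^ r ^ k = 1 := by
    refine Equiv.ext fun x => Subtype.ext ?_
    have : ∀ (n : ℕ) (x : {x // x ∈ D}), ((σ ^ n) x : Ω) = h ^ n • (x : Ω) := by
      intro n
      induction n with
      | zero => intro x; simp
      | succ n ih =>
        intro x
        rw [pow_succ, pow_succ, Equiv.Perm.mul_apply, ih, mul_smul]
        rfl
    rw [this, ← ho, pow_orderOf_eq_one, one_smul]
    rfl
  obtain ⟨⟨d, hd⟩, hfix⟩ := Equiv.Perm.exists_fixed_point_of_prime
    (show ¬ r ∣ Fintype.card {x // x ∈ D} by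
      rw [Fintype.card_coe, hD, S.class_card hy]
      exact fun e => hrp ((Nat.prime_dvd_prime_iff_eq hr S.prime).mp e)) hσ
  exact ⟨d, (Finset.mem_filter.mp hd).2, congrArg Subtype.val hfix⟩

include S in
theorem L_bot_of_semi (hS : ∀ a b : Ω, a ≠ b → S.Semi a b) {a b : Ω} (hab : a ≠ b) :
    S.L a b = ⊥ := by
  haveI := S.faith
  by_contra hne
  by_cases hsym : S.L a b = S.L b a
  swap
  · -- some prime power element moves a class around `b`
    obtain ⟨h, hh, ⟨r, k, hr, ho⟩, hhb⟩ :
        ∃ h ∈ S.L a b, (∃ r k : ℕ, r.Prime ∧ orderOf h = r ^ k) ∧ h ∉ S.L b a := by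
      by_contra hall
      simp only [not_exists, not_and, not_not] at hall
      exact hsym (S.L_eq_of_le hab hab.symm (le_of_prime_pow_le _ _
        fun g hg hp => hall g hg hp)).symm
    have hfix : ∀ h' ∈ S.L a b, h' ∉ S.L b a → ∀ z, h' • z = z → z ∈ S.line b a := by
      intro h' hh' hh'b z hz
      by_contra hzl
      refine hh'b ⟨hS b a hab.symm h' hh'.2 hh'.1.1 z hzl ?_, hh'.1.1⟩
      rw [hz]
      exact S.refl fun e => hzl (e ▸ S.left_mem_line b a)
    set T := (S.line b a).erase a with hT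
    have hTc : T.card = p := by
      rw [hT, Finset.card_erase_of_mem (S.right_mem_line hab), S.card_line hab]; omega
    set T' := T.filter fun z => h • z = z with hT'
    have hsub : S.lines a ⊆ T'.image (S.line a) := by
      intro D hD
      obtain ⟨y, hy, rfl⟩ := S.exists_of_mem_lines hD
      obtain ⟨d, hd, hdf⟩ := S.exists_fixed_in_class hab hh hr ho hy
      exact Finset.mem_image.mpr ⟨d, Finset.mem_filter.mpr ⟨Finset.mem_erase.mpr
        ⟨S.ne_right hd, hfix h hh hhb d hdf⟩, hdf⟩, S.line_eq hd⟩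
    have h1 := Finset.card_le_card hsub
    rw [S.card_lines] at h1
    have h2 : T'.card ≤ p := (Finset.card_filter_le _ _).trans hTc.le
    have h3 : (T'.image (S.line a)).card ≤ T'.card := Finset.card_image_le
    have hTeq : T' = T := Finset.eq_of_subset_of_card_le (Finset.filter_subset _ _)
      (by rw [hTc]; omega)
    have hinj : Set.InjOn (S.line a) (T' : Set Ω) := Finset.card_image_iff.mp (by omega)
    have hhfix : ∀ z ∈ S.line b a, h • z = z := fun z hz => by
      by_cases hza : z = a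
      · rw [hza]; exact hh.1.1
      exact (Finset.mem_filter.mp (hTeq ▸ Finset.mem_erase.mpr ⟨hza, hz⟩ : z ∈ T')).2
    have hL : ∀ l ∈ S.L a b, ∀ z ∈ S.line b a, l • z = z := by
      intro l hl z hz
      have hla : l • a = a := hl.1.1
      by_cases hza : z = a
      · rw [hza, hla]
      have hh' : l * h * l⁻¹ ∈ S.L a b := mul_mem (mul_mem hl hh) (inv_mem hl)
      have hh'b : l * h * l⁻¹ ∉ S.L b a := by
        intro e
        apply hhb
        have := S.conj_mem_L e l⁻¹
        rwa [inv_smul_eq_iff.mpr hl.2.symm, inv_smul_eq_iff.mpr hla.symm,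
          show l⁻¹ * (l * h * l⁻¹) * l⁻¹⁻¹ = h by group] at this
      have hlz : l • z ∈ S.line b a := by
        refine hfix _ hh' hh'b _ ?_
        rw [mul_smul, mul_smul, inv_smul_smul, hhfix z hz]
      have hlza : l • z ≠ a := fun e => hza (smul_left_cancel l (e.trans hla.symm))
      refine hinj (hTeq ▸ Finset.mem_erase.mpr ⟨hlza, hlz⟩ : l • z ∈ T')
        (hTeq ▸ Finset.mem_erase.mpr ⟨hza, hz⟩ : z ∈ T') ?_
      exact S.line_eq (hl.1.2 z hza)
    refine S.core_false hab hL (fun z hRz hz => ?_) fun y hy => ?_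
    · have hzl : z ∈ S.line b a := hfix h hh hhb z (hz h hh)
      exact hinj (hTeq ▸ Finset.mem_erase.mpr ⟨S.ne_right hRz, hzl⟩ : z ∈ T')
        (hTeq ▸ Finset.mem_erase.mpr ⟨hab.symm, S.left_mem_line b a⟩ : b ∈ T') (S.line_eq hRz)
    · have hya : y ≠ a := fun e => hy (e ▸ S.left_mem_line a b)
      obtain ⟨d, hd, hde⟩ := Finset.mem_image.mp (hsub (S.line_mem_lines hya))
      obtain ⟨hd1, hd2⟩ := Finset.mem_erase.mp (Finset.mem_filter.mp hd).1
      exact ⟨d, hd2, S.rel_of_line_eq hd1 hde⟩
  -- the kernel is symmetric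
  have hall : ∀ x y : Ω, x ≠ y → S.L x y = S.L y x := by
    intro x y hxy
    obtain ⟨g, rfl, rfl⟩ := S.exists_pair hab hxy
    ext l
    constructor <;> intro hl
    · have := S.conj_inv_mem_L hl
      rw [hsym] at this
      simpa [mul_assoc] using S.conj_mem_L this g
    · have := S.conj_inv_mem_L hl
      rw [← hsym] at this
      simpa [mul_assoc] using S.conj_mem_L this g
  let F : Ω → Ω → Finset Ω := fun x y => Finset.univ.filter fun z => ∀ l ∈ S.L x y, l • z = z
  have hmemF : ∀ {x y z}, z ∈ F x y ↔ ∀ l ∈ S.L x y, l • z = z := fun {x y z} => by simp [F]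
  have hFmem : ∀ x y, x ≠ y → x ∈ F x y ∧ y ∈ F x y := fun x y _ =>
    ⟨hmemF.mpr fun l hl => hl.1.1, hmemF.mpr fun l hl => hl.2⟩
  have hclosed : ∀ x y u v, x ≠ y → u ≠ v → u ∈ F x y → v ∈ F x y → F u v = F x y := by
    intro x y u v hxy huv hu hv
    suffices h : S.L u v = S.L x y by ext z; rw [hmemF, hmemF, h]
    refine S.L_eq_of_le hxy huv fun l hl => ⟨?_, hmemF.mp hv l hl⟩
    by_cases hux : u = x
    · rw [hux]; exact hl.1
    have h1 : S.L x u = S.L x y :=
      S.L_eq_of_le hxy (Ne.symm hux) fun l' hl' => ⟨hl'.1, hmemF.mp hu l' hl'⟩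
    rw [← h1, hall x u (Ne.symm hux)] at hl
    exact hl.1
  obtain ⟨m, hm⟩ : ∃ m, (F a b).card = m + 1 :=
    ⟨(F a b).card - 1, by
      have := Finset.card_pos.mpr ⟨a, (hFmem a b hab).1⟩
      omega⟩
  have hcard : ∀ x y, x ≠ y → (F x y).card = m + 1 := by
    intro x y hxy
    obtain ⟨g, rfl, rfl⟩ := S.exists_pair hab hxy
    rw [← hm, ← Finset.card_smul_finset g (F a b)]
    congr 1
    ext z
    rw [← Finset.inv_smul_mem_iff, hmemF, hmemF]
    constructor
    · intro hz l hl
      have := hz _ (S.conj_mem_L hl g)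
      rw [mul_smul, mul_smul] at this
      exact eq_inv_smul_iff.mpr this
    · intro hz l hl
      have := hz _ (S.conj_inv_mem_L hl)
      rw [mul_smul, mul_smul, smul_inv_smul] at this
      exact smul_left_cancel g⁻¹ this
  have hdvd := (design_dvd F hFmem hcard hclosed).1 a
  rw [S.card, Nat.add_sub_cancel] at hdvd
  obtain ⟨e, he, rfl⟩ := (Nat.dvd_prime_pow S.prime).mp hdvd
  interval_cases e
  · -- no further fixed point
    obtain ⟨z₀, hz₀⟩ : (((S.line b a).erase a).erase b).Nonempty := by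
      rw [← Finset.card_pos, S.card_rest hab]
      have := S.three_le
      omega
    have honly : ∀ z, (∀ l ∈ S.L a b, l • z = z) → z = a ∨ z = b := by
      intro z hz
      have : F a b = {a, b} := (Finset.eq_of_subset_of_card_le (by
        simp [Finset.insert_subset_iff, (hFmem a b hab).1, (hFmem a b hab).2])
        (by rw [hm, Finset.card_pair hab]; norm_num)).symm
      have h := this ▸ hmemF.mpr hz
      simpa using h
    rcases S.class_dichotomy hab with htr | ⟨hfree, hcomm⟩
    · -- transitive on the class of `b`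
      have htr' : ∀ x y, x ∈ ((S.line b a).erase a).erase b → y ∈ ((S.line b a).erase a).erase b →
          ∃ l ∈ S.L a b, l • x = y := by
        intro x y hx hy
        simp only [Finset.mem_erase] at hx hy
        obtain ⟨g, hga, hgb⟩ := S.exists_pair hab hab.symm
        have hmap : ∀ z, z ∈ S.line b a → z ≠ b → z ≠ a →
            S.R a b (g⁻¹ • z) ∧ g⁻¹ • z ≠ b := by
          intro z hz hzb hza
          have h := S.smul g⁻¹ ((S.mem_line.mp hz).resolve_left hzb)
          rw [inv_smul_eq_iff.mpr hga.symm, inv_smul_eq_iff.mpr hgb.symm] at h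
          exact ⟨h, fun e => hza (by rw [inv_smul_eq_iff, hgb] at e; exact e)⟩
        obtain ⟨h1, h2⟩ := hmap x hx.2.2 hx.1 hx.2.1
        obtain ⟨h3, h4⟩ := hmap y hy.2.2 hy.1 hy.2.1
        obtain ⟨l, hl, hlxy⟩ := htr _ _ h1 h3 h2 h4
        refine ⟨g * l * g⁻¹, ?_, by rw [mul_smul, mul_smul, hlxy, smul_inv_smul]⟩
        have := S.conj_mem_L hl g
        rw [hga, hgb] at this
        rwa [hsym]
      set O := ((S.line b a).erase a).erase b with hO
      have hz₀l : z₀ ∉ S.line a b := by
        intro h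
        refine S.line_ne hab (Finset.eq_of_subset_of_card_le (fun z hz => ?_)
          (by rw [S.card_line hab, S.card_line hab.symm])).symm
        by_cases hza : z = a
        · rw [hza]; exact S.left_mem_line a b
        by_cases hzb : z = b
        · rw [hzb]; exact S.right_mem_line hab.symm
        obtain ⟨l, hl, rfl⟩ := htr' z₀ z hz₀ (by simp [hO, hza, hzb, hz])
        exact S.smul_mem_line hl.1.1 hl.2 h
      have hz₀a : z₀ ≠ a := fun e => hz₀l (e ▸ S.left_mem_line a b)
      set D : Finset Ω := Finset.univ.filter fun z => S.R a z₀ z with hD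
      have hOD : O ⊆ D := fun z hz => by
        obtain ⟨l, hl, rfl⟩ := htr' z₀ z hz₀ hz
        exact Finset.mem_filter.mpr ⟨Finset.mem_univ _, hl.1.2 z₀ hz₀a⟩
      obtain ⟨e, he⟩ : ∃ e, D \ O = {e} := Finset.card_eq_one.mp (by
        rw [Finset.card_sdiff_of_subset hOD, S.card_rest hab, hD, S.class_card hz₀a]
        have := S.three_le
        omega)
      have hemem : e ∈ D \ O := he ▸ Finset.mem_singleton_self e
      rw [Finset.mem_sdiff] at hemem
      have heR := (Finset.mem_filter.mp hemem.1).2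
      have hfe : ∀ l ∈ S.L a b, l • e = e := by
        intro l hl
        have h : l • e ∈ D \ O := by
          refine Finset.mem_sdiff.mpr ⟨Finset.mem_filter.mpr ⟨Finset.mem_univ _,
            S.trans heR (hl.1.2 e (S.ne_right heR))⟩, fun h => hemem.2 ?_⟩
          simp only [hO, Finset.mem_erase] at h ⊢
          exact ⟨fun e' => h.1 (by rw [e']; exact hl.2), fun e' => h.2.1 (by rw [e']; exact hl.1.1),
            (S.smul_mem_line_iff hl.2 hl.1.1).mp h.2.2⟩
        rw [he, Finset.mem_singleton] at h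
        exact h
      rcases honly e hfe with rfl | rfl
      · exact S.ne_right heR rfl
      · exact hz₀l (S.mem_line.mpr (Or.inr (S.symm heR)))
    · -- commuting and semiregular on the class of `b`
      obtain ⟨h, hh, ⟨r, k, hr, ho⟩, hh1⟩ :
          ∃ h ∈ S.L a b, (∃ r k : ℕ, r.Prime ∧ orderOf h = r ^ k) ∧ h ≠ 1 := by
        by_contra hall'
        simp only [not_exists, not_and, ne_eq, not_not] at hall'
        exact hne (le_bot_iff.mp (le_of_prime_pow_le _ _
          fun g hg hp => Subgroup.mem_bot.mpr (hall' g hg hp)))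
      obtain ⟨y, hy⟩ : ∃ y, y ∉ S.line a b := by
        by_contra hall'
        simp only [not_exists, not_not] at hall'
        have := Finset.card_le_card (show Finset.univ ⊆ S.line a b from fun z _ => hall' z)
        rw [Finset.card_univ, S.card, S.card_line hab.symm] at this
        have := S.three_le
        nlinarith
      have hya : y ≠ a := fun e => hy (e ▸ S.left_mem_line a b)
      obtain ⟨d, hd, hdf⟩ := S.exists_fixed_in_class hab hh hr ho hya
      have hda : d ≠ a := S.ne_right hd
      obtain ⟨g, hga, hgd⟩ := S.exists_pair hab (Ne.symm hda)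
      have hdfix : ∀ l ∈ S.L a b, l • d = d := by
        intro l hl
        have hld : h • l • d = l • d := by
          rw [← mul_smul, hcomm h hh l hl, mul_smul, hdf]
        have hR1 : S.R a b (g⁻¹ • l • d) := by
          have := S.smul g⁻¹ (hl.1.2 d hda)
          rwa [inv_smul_eq_iff.mpr hga.symm, inv_smul_eq_iff.mpr hgd.symm] at this
        by_contra hne'
        have hg1 : g⁻¹ * h * g ∈ S.L a b := S.conj_inv_mem_L (by rw [hga, hgd]; exact ⟨hh.1, hdf⟩)
        have := hfree _ hg1 _ hR1 (fun e => hne' (by rw [inv_smul_eq_iff, hgd] at e; exact e))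
          (by rw [mul_smul, mul_smul, smul_inv_smul, hld])
        exact hh1 (by simpa [mul_assoc] using congrArg (fun x => g * x * g⁻¹) this)
      rcases honly d hdfix with rfl | rfl
      · exact hda rfl
      · exact hy (S.mem_line.mpr (Or.inr (S.symm hd)))
  · exact no_design S.prime S.card F hFmem (by simpa using hcard) hclosed
  · refine hne ((Subgroup.eq_bot_iff_forall _).mpr fun l hl => S.eq_one_of_fix_all (a := a) fun z => ?_)
    refine hmemF.mp ?_ l hl
    rw [Finset.eq_univ_of_card (F a b) (by rw [hm, S.card])]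
    exact Finset.mem_univ z

include S in
theorem L_bot {a b : Ω} (hab : a ≠ b) : S.L a b = ⊥ := by
  rcases S.semi_or_trans with h | h
  · exact S.L_bot_of_semi h hab
  · exact S.L_bot_of_trans h hab

end CfsgLib.SquareDegree.Setting
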